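import Cfsg.Agent.Mrg.Omega.TTn.TwoTypes
import Cfsg.Agent.Mrg.Omega.IId.SymWr.Frame
import Cfsg.Agent.Mrg.Omega.IId.SymWr.Fours


/-!
# The mixed partner: the duads of a situation `SymWr.Sit` (project OMEGA, II.d, SwBig)

`h : Sit S P V M` and `O₂(C_G(pr M p q)) ≤ P` for all duads (THEOREM L) give `Ds S V (pr M)` (`Sit.ds`); and
`O₂(C_G(V)) ≤ S` (`o2_centralizer_le`).
-/

set_option autoImplicit false

namespace Cfsg.Agent.Omega.IId.SwB.Mixed

open Subgroup Pointwise Cfsg Cfsg.Agent.ZN Cfsg.Agent.Omega.MinPar Cfsg.Agent.Omega.FFThm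
open Cfsg.Agent.Omega.IId.SymWr
open Cfsg.Agent.Omega.Half (Amb amb_of_loc)
open Cfsg.Agent.Omega.Half.SymA (E Mv pm)
open Cfsg.Agent.Omega.NSix.Base (rr NN)
open Cfsg.Agent.Omega.IId.LFour.SymF (lab)
open Cfsg.Agent.Omega.TTn.TwoTypes (inv_comm mem_C)
open Cfsg.Agent.MinSimple.VModule (o2_isPGroup le_o2 o2_le le_normalizer_o2)

universe u

variable {G : Type u} [Group G] {T P V : Subgroup G} {k m : ℕ}

section duads

variable {M : SymK T P V ⊥ k m}

theorem pair_eq {p q r s : Pt k m} (hpq : p.1 = q.1) (hrs : r.1 = s.1) (pq : p ≠ q)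
    (h : pr M p q = pr M r s) : (p = r ∧ q = s) ∨ (p = s ∧ q = r) := by
  have h1 : E M (pr M r s) p = 1 := by rw [← h, E_pr_left M hpq pq]
  have h2 : E M (pr M r s) q = 1 := by rw [← h, E_pr_right M hpq pq]
  have key : ∀ t, E M (pr M r s) t = 1 → t = r ∨ t = s := by
    intro t ht
    by_contra hc
    rw [not_or] at hc
    rw [E_pr_of_ne M hrs hc.1 hc.2] at ht
    exact absurd ht (by decide)
  rcases key p h1 with h3 | h3
  · rcases key q h2 with h4 | h4
    · exact absurd (h3.trans h4.symm) pq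
    · exact Or.inl ⟨h3, h4⟩
  · rcases key q h2 with h4 | h4
    · exact Or.inr ⟨h3, h4⟩
    · exact absurd (h3.trans h4.symm) pq

theorem rr_eq_pr (hm : 1 ≤ m) {i : Fin k} {a b : Fin (2 ^ m + 1)} (hab : a ≠ b) :
    rr (lab M hm i) a b = pr M (i, a) (i, b) := by
  have hne : ((i, a) : Pt k m) ≠ (i, b) := fun h => hab (congrArg Prod.snd h)
  refine Half.SymA.inj M (rr_mem_V hm i a b) (pr_mem M _ _) fun r => ?_
  rw [E_rr hm i hab]
  by_cases h1 : r = (i, a)
  · rw [if_pos (Or.inl h1), h1]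
    exact (E_pr_left M (p := (i, a)) (q := (i, b)) rfl hne).symm
  by_cases h2 : r = (i, b)
  · rw [if_pos (Or.inr h2), h2]
    exact (E_pr_right M (p := (i, a)) (q := (i, b)) rfl hne).symm
  · rw [if_neg (not_or.2 ⟨h1, h2⟩)]
    exact (E_pr_of_ne M (p := (i, a)) (q := (i, b)) rfl h1 h2).symm

theorem NN_eq (hm : 1 ≤ m) {i : Fin k} {a b : Fin (2 ^ m + 1)} (hab : a ≠ b) :
    NN (lab M hm i) a b = centralizer ({pr M (i, a) (i, b)} : Set G) := by
  unfold NN
  rw [rr_eq_pr hm hab]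

theorem exists_pt {p q : Pt k m} (hpq : p.1 = q.1) (pq : p ≠ q) :
    ∃ (i : Fin k) (a b : Fin (2 ^ m + 1)), a ≠ b ∧ p = (i, a) ∧ q = (i, b) :=
  ⟨p.1, p.2, q.2, fun h => pq (Prod.ext hpq h), rfl, Prod.ext hpq.symm rfl⟩

end duads

section sit

variable {S : Sylow 2 G} {M : SymK (S : Subgroup G) P V ⊥ k m} (h : Sit S P V M)

include h

/-- `O₂(C_G(n))` acts inside `⟨t_n⟩` -/
theorem o2_pp {p q : Pt k m} (hpq : p.1 = q.1) (pq : p ≠ q)
    (hL : o2 (centralizer ({pr M p q} : Set G)) ≤ P) {d : G}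
    (hd : d ∈ o2 (centralizer ({pr M p q} : Set G))) : pp M d = 1 ∨ pp M d = Equiv.swap p q := by
  obtain ⟨i, a, b, hab, rfl, rfl⟩ := exists_pt hpq pq
  rw [← NN_eq h.hm1 hab] at hL hd
  have h1 : ∀ r, r ≠ (i, a) → r ≠ (i, b) → pp M d r = r := fun r hr hr' =>
    acts_inside h.hm1 h.amb hab hL hd hr hr'
  have h2 : pp M d (i, a) = (i, a) ∨ pp M d (i, a) = (i, b) :=
    ((mem_NN_iff h.hm1 h.amb hab (hL hd)).1 (ZN.o2_le _ hd) _).2 (Or.inl rfl)
  have h3 : pp M d (i, b) = (i, a) ∨ pp M d (i, b) = (i, b) :=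
    ((mem_NN_iff h.hm1 h.amb hab (hL hd)).1 (ZN.o2_le _ hd) _).2 (Or.inr rfl)
  rcases h2 with h2 | h2
  · left
    have h4 : pp M d (i, b) = (i, b) := h3.resolve_left fun h4 => pq ((pp M d).injective (h2.trans h4.symm))
    ext1 r
    by_cases e1 : r = (i, a)
    · rw [e1, h2]; rfl
    by_cases e2 : r = (i, b)
    · rw [e2, h4]; rfl
    · rw [h1 r e1 e2]; rfl
  · right
    have h4 : pp M d (i, b) = (i, a) := h3.resolve_right fun h4 => pq ((pp M d).injective (h2.trans h4.symm))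
    ext1 r
    by_cases e1 : r = (i, a)
    · rw [e1, h2, Equiv.swap_apply_left]
    by_cases e2 : r = (i, b)
    · rw [e2, h4, Equiv.swap_apply_right]
    · rw [h1 r e1 e2, Equiv.swap_apply_of_ne_of_ne e1 e2]

/-- `V ≤ O₂(C_G(n))` -/
theorem V_le [Finite G] (hG : IsCharacteristicTwoType G) {p q : Pt k m} (hpq : p.1 = q.1) (pq : p ≠ q)
    (hL : o2 (centralizer ({pr M p q} : Set G)) ≤ P) : V ≤ o2 (centralizer ({pr M p q} : Set G)) := by
  obtain ⟨i, a, b, hab, rfl, rfl⟩ := exists_pt hpq pq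
  rw [← NN_eq h.hm1 hab] at hL ⊢
  exact V_le_o2 h.hm1 h.amb hG hab hL

/-- `[O₂(C_G(n)), V] ≤ ⟨n⟩` -/
theorem comm_cases {p q : Pt k m} (hpq : p.1 = q.1) (pq : p ≠ q)
    (hL : o2 (centralizer ({pr M p q} : Set G)) ≤ P) {d v : G}
    (hd : d ∈ o2 (centralizer ({pr M p q} : Set G))) (hv : v ∈ V) :
    d * v * d⁻¹ * v⁻¹ = 1 ∨ d * v * d⁻¹ * v⁻¹ = pr M p q := by
  obtain ⟨i, a, b, hab, rfl, rfl⟩ := exists_pt hpq pq
  rw [← NN_eq h.hm1 hab] at hL hd
  rcases conj_cases h.hm1 h.amb hab hL hd hv with h1 | h1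
  · left; rw [h1, mul_inv_cancel]
  · right
    rw [h1, ← rr_eq_pr h.hm1 hab, h.Vcomm hv (rr_mem_V h.hm1 i a b), mul_inv_cancel_right]

/-- a commuting element preserves the pair -/
theorem pair_of_comm {g : G} (hg : g ∈ P) {p q : Pt k m} (hpq : p.1 = q.1) (pq : p ≠ q)
    (hc : g * pr M p q = pr M p q * g) : (pp M g p = p ∧ pp M g q = q) ∨ (pp M g p = q ∧ pp M g q = p) := by
  have h1 := h.conj_pr hg hpq
  rw [hc, mul_inv_cancel_right] at h1
  rcases pair_eq (h.fst hg hpq) hpq (fun h2 => pq ((pp M g).injective h2)) h1.symm with h2 | h2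
  · exact Or.inl h2
  · exact Or.inr h2

theorem le_normalizer : P ≤ normalizer (V : Set G) := fun g hg => by
  rw [mem_normalizer_iff]
  intro v
  refine ⟨fun hv => h.amb.conj_mem hg hv, fun hv => ?_⟩
  have h1 := h.amb.conj_mem (inv_mem hg) hv
  have e : g⁻¹ * (g * v * g⁻¹) * g⁻¹⁻¹ = v := by group
  rwa [e] at h1

/-- the group `O₂(C_G(V))` lies in `S` -/
theorem o2_centralizer_le [Finite G] : o2 (centralizer (V : Set G)) ≤ (S : Subgroup G) := by
  have hSV : (S : Subgroup G) ≤ normalizer (V : Set G) := h.SP.trans (le_normalizer h)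
  have hnorm : (S : Subgroup G) ≤ normalizer (o2 (centralizer (V : Set G)) : Set G) := fun s hs => by
    refine MinSimple.VModule.mem_normalizer_of_map_le ?_
    rintro _ ⟨d, hd, rfl⟩
    exact TTn.TwoTypes.conj_R (hSV hs) hd
  have h1 : IsPGroup 2 ((S : Subgroup G) ⊔ o2 (centralizer (V : Set G)) : Subgroup G) :=
    S.isPGroup'.to_sup_of_normal_right' (o2_isPGroup _) hnorm
  have h2 := S.is_maximal' h1 le_sup_left
  rw [← h2]
  exact le_sup_right

/-- **The duads.** -/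
theorem ds [Finite G] (hG : IsCharacteristicTwoType G)
    (hL : ∀ p q : Pt k m, p.1 = q.1 → p ≠ q → o2 (centralizer ({pr M p q} : Set G)) ≤ P) :
    Ds (S : Subgroup G) V (pr M) where
  m2 := h.hm
  mem := pr_mem M
  comm := fun _ _ hpq => pr_comm M hpq
  mul := fun _ _ _ hpq hqr => pr_mul M hpq hqr
  sq := fun _ _ => h.Vsq (pr_mem M _ _)
  inj := fun _ _ _ _ hpq hrs pq he => pair_eq hpq hrs pq he
  lift := fun π hπ => by
    obtain ⟨g, hg, h1⟩ := h.exists_pp hπ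
    exact ⟨g, le_normalizer h hg, fun p q hpq => by rw [h.conj_pr hg hpq, h1]⟩
  VQ := fun p q hpq pq => V_le h hG hpq pq (hL p q hpq pq)
  act := fun p q hpq pq g hg => by
    have hgP := hL p q hpq pq hg
    refine ⟨le_normalizer h hgP, (o2_pp h hpq pq (hL p q hpq pq) hg).imp (fun h1 v hv => ?_) fun h1 r s hrs => ?_⟩
    · exact (mem_centralizer_iff.1 ((h.eq_one_iff hgP).1 h1) v hv).symm
    · rw [h.conj_pr hgP hrs, h1]
  cm := fun p q hpq pq g hg v hv => comm_cases h hpq pq (hL p q hpq pq) hg hv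
  fix := fun g hg p q hpq pq hc => by
    have hgP := h.SP hg
    have h1 := pair_of_comm h hgP hpq pq hc
    have h2 : pp M g (p.1, 0) = (p.1, 0) := by
      have h4 : (pp M g (p.1, 0)).1 = p.1 := by
        rw [h.fst hgP (p := (p.1, 0)) (q := p) rfl]
        rcases h1 with h3 | h3
        · rw [h3.1]
        · rw [h3.1, hpq]
      exact Prod.ext h4 ((h.snd hg).2 rfl)
    rw [h.conj_pr hgP (p := p) (q := (p.1, 0)) rfl, h2]
    rcases h1 with h3 | h3
    · left; rw [h3.1]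
    · right; rw [h3.1]

end sit

end Cfsg.Agent.Omega.IId.SwB.Mixed
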