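import Cfsg.Agent.Mrg.Omega.IId.SymWrD.Mod


/-!
# II.d, `SwBig`, `SwOne`: `⟨V ^ C_G(σ_i)⟩` is abelian (bb OMEGA #20414 (4), helper290)

`K = C_G(σ_i)`, `O = O₂(K)`; `P0 h`, `S0 h` : the kernels of `P`, `S` on the summands.
* `tri`, `tri'` : an element of `O ∩ P` does not map a duad commuting with `σ_i` to a duad meeting it in one point;
* `act_out`, `act_one`, `act_three` : the action of `O ∩ S0`: trivial outside of the nonzero points of the summand `i`,
  without fixed points there or trivial, trivial if `3 ≤ m`;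
* `commK` : if `O ≤ S0` (LEMMA R) and `V ≤ O₂(N_G(U))` for `P0 ≤ N_G(U)` (HF), then `V` commutes with `V ^ g`, `g ∈ K`;
* `esig`, `V_le_o2_sg`, `o2_sg_le_Q` : the results (`hZV : Ω₁Z(O₂(P)) ≤ V`, `2 ≤ k ∨ 3 ≤ m`); `esig_of` : for
  `SymWr.Sit` and `σ ∈ V` with the characteristic function of `σ_i`.
-/

set_option autoImplicit false
set_option linter.unusedSectionVars false

namespace Cfsg.Agent.Omega.IId.SwB

open Subgroup Pointwise Cfsg Cfsg.Agent.ZN Cfsg.Agent.Omega.MinPar Cfsg.Agent.Omega.FFThm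
open Cfsg.Agent.Omega.IId.SymWrD
open Cfsg.Agent.Omega.Half.SymA (Pt E Mv pm Amb0)
open Cfsg.Agent.MinSimple.VModule (mem_zc zc_le zc_comm zc_sq le_normalizer_o2 o2_isPGroup o2_le le_o2
  normalizer_le_normalizer_zc mem_normalizer_of_map_le)

universe u

variable {G : Type u} [Group G] {P V : Subgroup G} {k m : ℕ}

/-- a permutation of 2-power order has no 3-cycle -/
theorem fix_of_cyc {α : Type*} {π : Equiv.Perm α} {n : ℕ} (h2 : π ^ 2 ^ n = 1) {a b c : α} (h1 : π a = b)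
    (h3 : π b = c) (h4 : π c = a) : b = a := by
  have e1 : Function.IsPeriodicPt π 3 a := by
    change π (π (π a)) = a
    rw [h1, h3, h4]
  have e2 : Function.IsPeriodicPt π (2 ^ n) a := by
    have h5 : (π ^ 2 ^ n) a = a := by rw [h2]; rfl
    rw [Function.IsPeriodicPt, Function.IsFixedPt]
    rwa [← Equiv.Perm.iterate_eq_pow] at h5
  have e3 := e1.gcd e2
  have e4 : Nat.gcd 3 (2 ^ n) = 1 := by
    apply Nat.Coprime.pow_right
    decide
  rw [e4] at e3
  have e5 : π a = a := e3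
  rw [← h1, e5]

theorem mem_norm_of {A : Subgroup G} {B : Subgroup G} (h : ∀ g ∈ B, ∀ a ∈ A, g * a * g⁻¹ ∈ A) :
    B ≤ normalizer (A : Set G) := by
  intro g hg
  rw [mem_normalizer_iff]
  refine fun a => ⟨h g hg a, fun ha => ?_⟩
  have h1 := h g⁻¹ (inv_mem hg) _ ha
  have e : g⁻¹ * (g * a * g⁻¹) * g⁻¹⁻¹ = a := by group
  rwa [e] at h1

section

variable {S : Sylow 2 G} {M : SymK (S : Subgroup G) P V ⊥ k m} (h : Sit S P V M)

/-- the kernel of `P` on the summands -/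
def P0 : Subgroup G where
  carrier := {g | g ∈ P ∧ ∀ p, (pp M g p).1 = p.1}
  one_mem' := ⟨one_mem P, fun p => by rw [h.one]; rfl⟩
  mul_mem' := by
    rintro a b ⟨ha, ha'⟩ ⟨hb, hb'⟩
    refine ⟨mul_mem ha hb, fun p => ?_⟩
    rw [h.mul ha hb, Equiv.Perm.mul_apply, ha', hb']
  inv_mem' := by
    rintro a ⟨ha, ha'⟩
    refine ⟨inv_mem ha, fun p => ?_⟩
    rw [h.inv ha]
    have h1 := ha' ((pp M a)⁻¹ p)
    rw [show pp M a ((pp M a)⁻¹ p) = p from (pp M a).apply_symm_apply p] at h1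
    exact h1.symm

variable {h}

theorem mem_P0 {g : G} : g ∈ P0 h ↔ g ∈ P ∧ ∀ p, (pp M g p).1 = p.1 := Iff.rfl

theorem S0_zero {s : G} (hs : s ∈ S0 h) (l : Fin k) : pp M s (l, 0) = (l, 0) := by
  have h1 := ((mem_S0 h).1 hs).2 (l, 0)
  have h2 : (pp M s (l, 0)).2 = 0 := (h.snd ((mem_S0 h).1 hs).1).2 rfl
  exact Prod.ext h1 h2

variable (h)

include h

open scoped Classical in
/-- an element of `P` inducing a transposition -/
theorem exists_swap {a b : Pt k m} (hab : a.1 = b.1) : ∃ g ∈ P, pp M g = Equiv.swap a b :=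
  h.exists_pp fun r => by
    rcases eq_or_ne r a with rfl | hr
    · rw [Equiv.swap_apply_left, hab]
    · rcases eq_or_ne r b with rfl | hr'
      · rw [Equiv.swap_apply_right, hab]
      · rw [Equiv.swap_apply_of_ne_of_ne hr hr']

open scoped Classical in
/-- commutation of an element inducing a transposition -/
theorem swap_comm {a b : Pt k m} {g v : G} (hg : g ∈ P) (hgp : pp M g = Equiv.swap a b) (hv : v ∈ V)
    (hE : E M v a = E M v b) : g * v = v * g := by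
  refine (h.comm_iff hg hv).2 fun r => ?_
  rw [hgp]
  rcases eq_or_ne r a with rfl | hr
  · rw [Equiv.swap_apply_left, hE]
  · rcases eq_or_ne r b with rfl | hr'
    · rw [Equiv.swap_apply_right, hE]
    · rw [Equiv.swap_apply_of_ne_of_ne hr hr']

/-- the powers -/
theorem pp_pow {g : G} (hg : g ∈ P) (n : ℕ) : pp M (g ^ n) = pp M g ^ n := by
  induction n with
  | zero => rw [pow_zero, pow_zero, h.one]
  | succ n ih => rw [pow_succ, pow_succ, h.mul (pow_mem hg n) hg, ih]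

open scoped Classical in
/-- the commutator with a transposition -/
theorem pp_comm_swap {a b : Pt k m} {u g : G} (hu : u ∈ P) (hg : g ∈ P) (hgp : pp M g = Equiv.swap a b) :
    pp M (u * g * u⁻¹ * g⁻¹) = Equiv.swap (pp M u a) (pp M u b) * Equiv.swap a b := by
  rw [h.mul (mul_mem (mul_mem hu hg) (inv_mem hu)) (inv_mem hg), h.conj hu hg, h.inv hg, hgp, Equiv.swap_inv,
    ← Equiv.swap_apply_apply]

open scoped Classical in
theorem pow_comm_swap {X : Subgroup G} (hX : IsPGroup 2 X) {a b : Pt k m} {u g : G} (hu : u ∈ P)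
    (hg : g ∈ P) (hgp : pp M g = Equiv.swap a b) (hc : u * g * u⁻¹ * g⁻¹ ∈ X) :
    ∃ n : ℕ, (Equiv.swap (pp M u a) (pp M u b) * Equiv.swap a b) ^ 2 ^ n = 1 := by
  obtain ⟨n, hn⟩ := hX ⟨_, hc⟩
  refine ⟨n, ?_⟩
  have hcP : u * g * u⁻¹ * g⁻¹ ∈ P := mul_mem (mul_mem (mul_mem hu hg) (inv_mem hu)) (inv_mem hg)
  have hn' : (u * g * u⁻¹ * g⁻¹) ^ 2 ^ n = 1 := congrArg Subtype.val hn
  rw [← pp_comm_swap h hu hg hgp, ← pp_pow h hcP, hn', h.one]

open scoped Classical in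
/-- an element of the 2-group `X ≥ [X, swap]` -/
theorem tri_aux {X : Subgroup G} (hX : IsPGroup 2 X) {a b : Pt k m} (hne : a ≠ b) {u g : G} (hu : u ∈ P)
    (hg : g ∈ P) (hgp : pp M g = Equiv.swap a b) (hc : u * g * u⁻¹ * g⁻¹ ∈ X) (h1 : pp M u a = a) :
    pp M u b = b := by
  by_contra h2
  obtain ⟨n, hn⟩ := pow_comm_swap h hX hu hg hgp hc
  have hub : pp M u b ≠ a := fun e => hne ((pp M u).injective (h1.trans e.symm))
  rw [h1] at hn
  have e1 : (Equiv.swap a (pp M u b) * Equiv.swap a b) b = pp M u b := by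
    rw [Equiv.Perm.mul_apply, Equiv.swap_apply_right, Equiv.swap_apply_left]
  have e2 : (Equiv.swap a (pp M u b) * Equiv.swap a b) (pp M u b) = a := by
    rw [Equiv.Perm.mul_apply, Equiv.swap_apply_of_ne_of_ne hub h2, Equiv.swap_apply_right]
  have e3 : (Equiv.swap a (pp M u b) * Equiv.swap a b) a = b := by
    rw [Equiv.Perm.mul_apply, Equiv.swap_apply_left, Equiv.swap_apply_of_ne_of_ne hne.symm (Ne.symm h2)]
  exact h2 (fix_of_cyc hn e1 e2 e3)

open scoped Classical in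
/-- an element of the 2-group `X ≥ [X, swap]` -/
theorem tri_aux' {X : Subgroup G} (hX : IsPGroup 2 X) {a b : Pt k m} (hne : a ≠ b) {u g : G} (hu : u ∈ P)
    (hg : g ∈ P) (hgp : pp M g = Equiv.swap a b) (hc : u * g * u⁻¹ * g⁻¹ ∈ X) (h1 : pp M u a = b) :
    pp M u b = a := by
  by_contra h2
  obtain ⟨n, hn⟩ := pow_comm_swap h hX hu hg hgp hc
  have hub : pp M u b ≠ b := fun e => hne ((pp M u).injective (h1.trans e.symm))
  rw [h1] at hn
  have e1 : (Equiv.swap b (pp M u b) * Equiv.swap a b) a = pp M u b := by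
    rw [Equiv.Perm.mul_apply, Equiv.swap_apply_left, Equiv.swap_apply_left]
  have e2 : (Equiv.swap b (pp M u b) * Equiv.swap a b) (pp M u b) = b := by
    rw [Equiv.Perm.mul_apply, Equiv.swap_apply_of_ne_of_ne h2 hub, Equiv.swap_apply_right]
  have e3 : (Equiv.swap b (pp M u b) * Equiv.swap a b) b = a := by
    rw [Equiv.Perm.mul_apply, Equiv.swap_apply_right, Equiv.swap_apply_of_ne_of_ne hne (Ne.symm h2)]
  exact h2 (fix_of_cyc hn e1 e2 e3)

/-! ### The centraliser of `σ_i` -/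

variable {σ : G} {i : Fin k} (hσ : σ ∈ V)
  (hE : ∀ p : Pt k m, E M σ p = if p.1 = i then (if p.2 = 0 then 0 else 1) else 0)

include hσ hE

theorem sg_ne : σ ≠ 1 := by
  rintro rfl
  have h1 := hE (i, 1)
  have h2 : (1 : Fin (2 ^ m + 1)) ≠ 0 := by
    have h3 : 2 ^ 2 ≤ 2 ^ m := Nat.pow_le_pow_right (by norm_num) h.hm
    have : Nontrivial (Fin (2 ^ m + 1)) := Fin.nontrivial_iff_two_le.2 (by omega)
    exact one_ne_zero
  rw [Half.SymA.E_one M, if_pos rfl, if_neg h2] at h1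
  exact zero_ne_one h1

theorem E_eq {a b : Pt k m} (hab : a.1 = b.1) (h0 : a.2 = 0 ↔ b.2 = 0) : E M σ a = E M σ b := by
  rw [hE, hE, hab]
  simp only [h0]

theorem E_eq' {a b : Pt k m} (hab : a.1 = b.1) (hi : a.1 ≠ i) : E M σ a = E M σ b := by
  rw [hE, hE, ← hab, if_neg hi, if_neg hi]

theorem V_le : V ≤ centralizer ({σ} : Set G) := fun v hv => by
  rw [mem_centralizer_singleton_iff]
  exact h.Vcomm hv hσ

theorem S0_le_K : S0 h ≤ centralizer ({σ} : Set G) := fun s hs => by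
  rw [mem_centralizer_singleton_iff]
  refine (h.comm_iff (h.SP ((mem_S0 h).1 hs).1) hσ).2 fun p => ?_
  exact E_eq h hσ hE (((mem_S0 h).1 hs).2 p) (h.snd ((mem_S0 h).1 hs).1)

variable [Finite G]

open scoped Classical in
/-- the commutators with the transpositions commuting with `σ_i` -/
theorem comm_mem {u g : G} (hu : u ∈ o2 (centralizer ({σ} : Set G))) {a b : Pt k m} (hg : g ∈ P)
    (hgp : pp M g = Equiv.swap a b) (hab : E M σ a = E M σ b) :
    u * g * u⁻¹ * g⁻¹ ∈ o2 (centralizer ({σ} : Set G)) := by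
  have hgK : g ∈ centralizer ({σ} : Set G) := by
    rw [mem_centralizer_singleton_iff]
    exact swap_comm h hg hgp hσ hab
  have h1 := (mem_normalizer_iff.1 (le_normalizer_o2 _ hgK) u⁻¹).1 (inv_mem hu)
  have e : u * g * u⁻¹ * g⁻¹ = u * (g * u⁻¹ * g⁻¹) := by group
  rw [e]
  exact mul_mem hu h1

theorem tri {u : G} (hu : u ∈ o2 (centralizer ({σ} : Set G))) (huP : u ∈ P) {a b : Pt k m} (hab : a.1 = b.1)
    (hne : a ≠ b) (hEab : E M σ a = E M σ b) (h1 : pp M u a = a) : pp M u b = b := by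
  classical
  obtain ⟨g, hg, hgp⟩ := exists_swap h hab
  exact tri_aux h (o2_isPGroup _) hne huP hg hgp (comm_mem h hσ hE hu hg hgp hEab) h1

theorem tri' {u : G} (hu : u ∈ o2 (centralizer ({σ} : Set G))) (huP : u ∈ P) {a b : Pt k m} (hab : a.1 = b.1)
    (hne : a ≠ b) (hEab : E M σ a = E M σ b) (h1 : pp M u a = b) : pp M u b = a := by
  classical
  obtain ⟨g, hg, hgp⟩ := exists_swap h hab
  exact tri_aux' h (o2_isPGroup _) hne huP hg hgp (comm_mem h hσ hE hu hg hgp hEab) h1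

/-- trivial outside of the summand `i` -/
theorem act_out {u : G} (hu : u ∈ o2 (centralizer ({σ} : Set G))) (hu0 : u ∈ S0 h) {p : Pt k m} (hp : p.1 ≠ i) :
    pp M u p = p := by
  by_cases h0 : p.2 = 0
  · have e : p = (p.1, 0) := Prod.ext rfl h0
    rw [e]
    exact S0_zero hu0 _
  · refine tri h hσ hE hu (h.SP ((mem_S0 h).1 hu0).1) (a := (p.1, 0)) rfl (fun e => h0 ?_) ?_ (S0_zero hu0 _)
    · rw [← e]
    · exact E_eq' h hσ hE rfl hp

/-- trivial or without fixed points -/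
theorem act_one {u : G} (hu : u ∈ o2 (centralizer ({σ} : Set G))) (hu0 : u ∈ S0 h) {a : Pt k m} (ha : a.1 = i)
    (ha0 : a.2 ≠ 0) (h1 : pp M u a = a) : pp M u = 1 := by
  ext1 p
  change pp M u p = p
  by_cases hp : p.1 = i
  · by_cases h0 : p.2 = 0
    · have e : p = (p.1, 0) := Prod.ext rfl h0
      rw [e]
      exact S0_zero hu0 _
    · by_cases hap : a = p
      · rw [← hap, h1]
      · exact tri h hσ hE hu (h.SP ((mem_S0 h).1 hu0).1) (ha.trans hp.symm) hap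
          (E_eq h hσ hE (ha.trans hp.symm) (by simp only [ha0, h0])) h1
  · exact act_out h hσ hE hu hu0 hp

/-- an involution -/
theorem act_inv {u : G} (hu : u ∈ o2 (centralizer ({σ} : Set G))) (hu0 : u ∈ S0 h) {a : Pt k m}
    (ha0 : a.2 ≠ 0) : pp M u (pp M u a) = a := by
  by_cases h1 : pp M u a = a
  · rw [h1, h1]
  · have h2 : a.1 = (pp M u a).1 := (((mem_S0 h).1 hu0).2 a).symm
    have h3 : (pp M u a).2 ≠ 0 := fun e => ha0 ((h.snd ((mem_S0 h).1 hu0).1).1 e)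
    exact tri' h hσ hE hu (h.SP ((mem_S0 h).1 hu0).1) h2 (Ne.symm h1)
      (E_eq h hσ hE h2 (by simp only [ha0, h3])) rfl

/-- `3 ≤ m` : trivial -/
theorem act_three (hm : 3 ≤ m) {u : G} (hu : u ∈ o2 (centralizer ({σ} : Set G))) (hu0 : u ∈ S0 h) :
    pp M u = 1 := by
  classical
  have huP := h.SP ((mem_S0 h).1 hu0).1
  obtain ⟨a, ha, ha'⟩ := exists_pt hm i {(i, 0)} (by simp)
  have ha0 : a.2 ≠ 0 := fun e => ha' (Finset.mem_singleton.2 (Prod.ext ha e))
  by_contra h1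
  have h2 : ∀ b : Pt k m, b.1 = i → b.2 ≠ 0 → pp M u b ≠ b := fun b hb hb0 e =>
    h1 (act_one h hσ hE hu hu0 hb hb0 e)
  obtain ⟨c, hc, hc'⟩ := exists_pt hm i {(i, 0), a, pp M u a} ((Finset.card_le_three).trans (by norm_num))
  simp only [Finset.mem_insert, Finset.mem_singleton, not_or] at hc'
  have hc0 : c.2 ≠ 0 := fun e => hc'.1 (Prod.ext hc e)
  obtain ⟨e, he, he'⟩ := exists_pt hm i {(i, 0), a, c, pp M u a, pp M u c}
    ((Finset.card_le_five).trans (by norm_num))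
  simp only [Finset.mem_insert, Finset.mem_singleton, not_or] at he'
  have he0 : e.2 ≠ 0 := fun e1 => he'.1 (Prod.ext he e1)
  obtain ⟨g, hg, hgp⟩ := exists_swap h (ha.trans hc.symm)
  have hEac : E M σ a = E M σ c := E_eq h hσ hE (ha.trans hc.symm) (by simp only [ha0, hc0])
  have hEae : E M σ e = E M σ a := E_eq h hσ hE (he.trans ha.symm) (by simp only [ha0, he0])
  have h3 := comm_mem h hσ hE hu hg hgp hEac
  have h4 := pp_comm_swap h huP hg hgp
  have hcP : u * g * u⁻¹ * g⁻¹ ∈ P := mul_mem (mul_mem (mul_mem huP hg) (inv_mem huP)) (inv_mem hg)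
  have h5 : pp M (u * g * u⁻¹ * g⁻¹) e = e := by
    rw [h4, Equiv.Perm.mul_apply, Equiv.swap_apply_of_ne_of_ne he'.2.1 he'.2.2.1,
      Equiv.swap_apply_of_ne_of_ne he'.2.2.2.1 he'.2.2.2.2]
  have h6 := tri h hσ hE h3 hcP (he.trans ha.symm) he'.2.1 hEae h5
  have h7 : pp M (u * g * u⁻¹ * g⁻¹) a = c := by
    rw [h4, Equiv.Perm.mul_apply, Equiv.swap_apply_left,
      Equiv.swap_apply_of_ne_of_ne hc'.2.2 (Ne.symm (h2 c hc hc0))]
  exact hc'.2.1 (h7.symm.trans h6)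

/-- the characteristic of the centraliser of an involution -/
theorem char2_cent (hG : IsCharacteristicTwoType G) : centralizer ({σ} : Set G) ⊓
    centralizer (o2 (centralizer ({σ} : Set G)) : Set G) ≤ o2 (centralizer ({σ} : Set G)) := by
  have h2 : σ ^ 2 = 1 := by rw [pow_two]; exact h.Vsq hσ
  have h1 := MinSimple.Basic.char2_normalizer hG (U := zpowers σ)
    (IsPGroup.iff_card.2 ⟨1, by
      rw [Nat.card_zpowers]; exact (orderOf_eq_prime h2 (sg_ne h hσ hE)).trans (pow_one 2).symm⟩)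
    (fun h0 => sg_ne h hσ hE (zpowers_eq_bot.1 h0))
  rwa [MinSimple.Basic.normalizer_zpowers_eq h2] at h1

theorem exists_third (s : Finset (Pt k m)) (hs : s.card ≤ 3) : ∃ p : Pt k m, p.1 = i ∧ p ∉ s := by
  classical
  by_contra h0
  push Not at h0
  have h1 : (Finset.univ.image fun y : Fin (2 ^ m + 1) => ((i, y) : Pt k m)) ⊆ s := by
    intro p hp
    obtain ⟨y, -, rfl⟩ := Finset.mem_image.1 hp
    exact h0 _ rfl
  have h2 := Finset.card_le_card h1
  rw [Finset.card_image_of_injective _ (fun a b hab => (Prod.ext_iff.1 hab).2), Finset.card_univ,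
    Fintype.card_fin] at h2
  have h3 : 2 ^ 2 ≤ 2 ^ m := Nat.pow_le_pow_right (by norm_num) h.hm
  omega

/-- conjugation in `K` -/
theorem conj_o2 {g x : G} (hg : g ∈ centralizer ({σ} : Set G)) (hx : x ∈ o2 (centralizer ({σ} : Set G))) :
    g * x * g⁻¹ ∈ o2 (centralizer ({σ} : Set G)) :=
  (mem_normalizer_iff.1 (le_normalizer_o2 _ hg) x).1 hx

theorem conj_o2' {g x : G} (hg : g ∈ centralizer ({σ} : Set G)) (hx : x ∈ o2 (centralizer ({σ} : Set G))) :
    g⁻¹ * x * g ∈ o2 (centralizer ({σ} : Set G)) := by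
  have := conj_o2 h hσ hE (inv_mem hg) hx
  rwa [inv_inv] at this

section main

variable (hO : o2 (centralizer ({σ} : Set G)) ≤ S0 h)
include hO

/-- the case `[O, V] = 1` -/
theorem comm_of_triv (hG : IsCharacteristicTwoType G) (ht : ∀ u ∈ o2 (centralizer ({σ} : Set G)), pp M u = 1)
    {g : G} (hg : g ∈ centralizer ({σ} : Set G)) {v w : G} (hv : v ∈ V) (hw : w ∈ V) :
    v * (g * w * g⁻¹) = g * w * g⁻¹ * v := by
  have h1 : ∀ v ∈ V, ∀ u ∈ o2 (centralizer ({σ} : Set G)), u * v = v * u := fun v hv u hu =>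
    ((mem_centralizer_iff.1 ((h.eq_one_iff (h.SP ((mem_S0 h).1 (hO hu)).1)).1 (ht u hu)) v hv)).symm
  have h2 : w ∈ o2 (centralizer ({σ} : Set G)) :=
    char2_cent h hσ hE hG ⟨V_le h hσ hE hw, mem_centralizer_iff.2 fun u hu => h1 w hw u hu⟩
  exact (h1 v hv _ (conj_o2 h hσ hE hg h2)).symm

/-- the commutator `[v, u]`, `v = {0, a}` -/
theorem comm_pr {u : G} (hu : u ∈ o2 (centralizer ({σ} : Set G))) (a : Pt k m) (ha : a.1 = i) :
    pr M (i, 0) a * (u * pr M (i, 0) a * u⁻¹) = pr M a (pp M u a) := by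
  have hu0 := (mem_S0 h).1 (hO hu)
  have h1 : ((i, 0) : Pt k m).1 = a.1 := ha.symm
  rw [h.conj_pr (h.SP hu0.1) h1, S0_zero (hO hu), pr_comm M h1, pr_mul M h1.symm]
  exact (h1.trans (hu0.2 a).symm)

/-- `u ∈ O` does not commute with `{a, b}` if `u a ≠ a, b` -/
theorem ne_of_pr {u : G} (hu : u ∈ o2 (centralizer ({σ} : Set G))) {a b : Pt k m} (hab : a.1 = b.1) (hne : a ≠ b)
    (hc : u * pr M a b = pr M a b * u) : pp M u a = a ∨ pp M u a = b := by
  by_contra h0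
  push Not at h0
  have h1 := (h.comm_iff (h.SP ((mem_S0 h).1 (hO hu)).1) (pr_mem M _ _)).1 hc a
  rw [E_pr_left M hab hne, E_pr_of_ne M hab h0.1 h0.2] at h1
  exact zero_ne_one h1

/-- two elements of `V ^ g` act in the same way if they act nontrivially -/
theorem same_act (hVO : V ≤ o2 (centralizer ({σ} : Set G))) {g : G} (hg : g ∈ centralizer ({σ} : Set G))
    {u u' : G} (hu : g⁻¹ * u * g ∈ V) (hu' : g⁻¹ * u' * g ∈ V) (h1 : pp M u ≠ 1) (h2 : pp M u' ≠ 1) :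
    pp M u = pp M u' := by
  have key : ∀ x, g⁻¹ * x * g ∈ V → x ∈ o2 (centralizer ({σ} : Set G)) := fun x hx => by
    have := conj_o2 h hσ hE hg (hVO hx)
    have e : g * (g⁻¹ * x * g) * g⁻¹ = x := by group
    rwa [e] at this
  have hu1 := key u hu
  have hu1' := key u' hu'
  ext1 p
  by_cases hp : p.1 = i
  · by_cases h0 : p.2 = 0
    · have e : p = (p.1, 0) := Prod.ext rfl h0
      rw [e, S0_zero (hO hu1), S0_zero (hO hu1')]
    · have h3 : pp M u p ≠ p := fun e => h1 (act_one h hσ hE hu1 (hO hu1) hp h0 e)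
      have h4 : pp M u' p ≠ p := fun e => h2 (act_one h hσ hE hu1' (hO hu1') hp h0 e)
      have h5 := comm_pr h hσ hE hO hu1 p hp
      set v := pr M (i, 0) p with hv
      have hvV : v ∈ V := pr_mem M _ _
      have hvv : v⁻¹ = v := inv_eq_of_mul_eq_one_left (h.Vsq hvV)
      -- the commutator lies in `V ^ g`
      have h6 : g⁻¹ * pr M p (pp M u p) * g ∈ V := by
        have h7 : g⁻¹ * v * g ∈ P := h.SP ((mem_S0 h).1 (hO (conj_o2' h hσ hE hg (hVO hvV)))).1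
        have h8 := h.amb.conj_mem h7 hu
        have h9 : (g⁻¹ * v * g) * (g⁻¹ * u * g) * (g⁻¹ * v * g)⁻¹ * (g⁻¹ * u * g)⁻¹ ∈ V :=
          mul_mem h8 (inv_mem hu)
        have e : (g⁻¹ * v * g) * (g⁻¹ * u * g) * (g⁻¹ * v * g)⁻¹ * (g⁻¹ * u * g)⁻¹ =
            g⁻¹ * (v * (u * v⁻¹ * u⁻¹)) * g := by group
        rw [e, hvv, h5] at h9
        exact h9
      have h7 : u' * pr M p (pp M u p) = pr M p (pp M u p) * u' := by
        have h8 := h.Vcomm hu' h6
        have e1 : u' * pr M p (pp M u p) = g * (g⁻¹ * u' * g * (g⁻¹ * pr M p (pp M u p) * g)) * g⁻¹ := by group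
        rw [e1, h8]
        group
      exact ((ne_of_pr h hσ hE hO hu1' (((mem_S0 h).1 (hO hu1)).2 p).symm (Ne.symm h3) h7).resolve_left h4).symm
  · rw [act_out h hσ hE hu1 (hO hu1) hp, act_out h hσ hE hu1' (hO hu1') hp]

/-- the case `V ≤ O` -/
theorem comm_of_le (hVO : V ≤ o2 (centralizer ({σ} : Set G))) {g : G} (hg : g ∈ centralizer ({σ} : Set G))
    {v w : G} (hv : v ∈ V) (hw : w ∈ V) : v * (g * w * g⁻¹) = g * w * g⁻¹ * v := by
  classical
  by_contra hne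
  set u := g * w * g⁻¹ with hu
  have huO : u ∈ o2 (centralizer ({σ} : Set G)) := conj_o2 h hσ hE hg (hVO hw)
  have hu1 : pp M u ≠ 1 := fun e =>
    hne (mem_centralizer_iff.1 ((h.eq_one_iff (h.SP ((mem_S0 h).1 (hO huO)).1)).1 e) v hv)
  have hfix : ∀ b : Pt k m, b.1 = i → b.2 ≠ 0 → pp M u b ≠ b := fun b hb hb0 e =>
    hu1 (act_one h hσ hE huO (hO huO) hb hb0 e)
  have hnz : ∀ b : Pt k m, b.2 ≠ 0 → pp M u b ≠ (i, 0) := fun b hb e => hb
    ((h.snd ((mem_S0 h).1 (hO huO)).1).1 (by rw [e]))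
  obtain ⟨a, ha, ha'⟩ := exists_third h hσ hE {(i, 0)} (by simp)
  have ha0 : a.2 ≠ 0 := fun e => ha' (Finset.mem_singleton.2 (Prod.ext ha e))
  obtain ⟨c, hc, hc'⟩ := exists_third h hσ hE {(i, 0), a, pp M u a} Finset.card_le_three
  simp only [Finset.mem_insert, Finset.mem_singleton, not_or] at hc'
  have hc0 : c.2 ≠ 0 := fun e => hc'.1 (Prod.ext hc e)
  have hia : ((i, 0) : Pt k m).1 = a.1 := ha.symm
  have hac : a.1 = c.1 := ha.trans hc.symm
  have hia' : ((i, 0) : Pt k m) ≠ a := fun e => ha0 (by rw [← e])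
  have hic' : ((i, 0) : Pt k m) ≠ c := fun e => hc0 (by rw [← e])
  -- `{0, a}`, `{a, c}`, `{0, c}` do not commute with `u`
  have n1 : u * pr M (i, 0) a ≠ pr M (i, 0) a * u := fun e => by
    rw [pr_comm M hia] at e
    rcases ne_of_pr h hσ hE hO huO hia.symm hia'.symm e with e1 | e1
    · exact hfix a ha ha0 e1
    · exact hnz a ha0 e1
  have n2 : u * pr M a c ≠ pr M a c * u := fun e => by
    rcases ne_of_pr h hσ hE hO huO hac (Ne.symm hc'.2.1) e with e1 | e1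
    · exact hfix a ha ha0 e1
    · exact hc'.2.2 e1.symm
  have n3 : u * pr M (i, 0) c ≠ pr M (i, 0) c * u := fun e => by
    rw [pr_comm M (hia.trans hac)] at e
    rcases ne_of_pr h hσ hE hO huO (hia.trans hac).symm hic'.symm e with e1 | e1
    · exact hfix c hc hc0 e1
    · exact hnz c hc0 e1
  have hgi : g⁻¹ ∈ centralizer ({σ} : Set G) := inv_mem hg
  have ewu : g⁻¹ * u * g = w := by rw [hu]; group
  have cnt : ∀ x ∈ V, u * x ≠ x * u → pp M (g⁻¹ * x * g) ≠ 1 := by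
    intro x hx hn e
    have hxP : g⁻¹ * x * g ∈ P := h.SP ((mem_S0 h).1 (hO (conj_o2' h hσ hE hg (hVO hx)))).1
    have h1 := mem_centralizer_iff.1 ((h.eq_one_iff hxP).1 e) w hw
    apply hn
    have e1 : u * x = g * (w * (g⁻¹ * x * g)) * g⁻¹ := by rw [hu]; group
    rw [e1, h1, hu]
    group
  have h1 := same_act h hσ hE hO hVO hgi (u := g⁻¹ * pr M (i, 0) a * g) (u' := g⁻¹ * pr M a c * g)
    (by
      have e : g⁻¹⁻¹ * (g⁻¹ * pr M (i, 0) a * g) * g⁻¹ = pr M (i, 0) a := by group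
      rw [e]; exact pr_mem M _ _)
    (by
      have e : g⁻¹⁻¹ * (g⁻¹ * pr M a c * g) * g⁻¹ = pr M a c := by group
      rw [e]; exact pr_mem M _ _)
    (cnt _ (pr_mem M _ _) n1) (cnt _ (pr_mem M _ _) n2)
  have p1 : g⁻¹ * pr M (i, 0) a * g ∈ P :=
    h.SP ((mem_S0 h).1 (hO (conj_o2' h hσ hE hg (hVO (pr_mem M _ _))))).1
  have p2 : g⁻¹ * pr M a c * g ∈ P :=
    h.SP ((mem_S0 h).1 (hO (conj_o2' h hσ hE hg (hVO (pr_mem M _ _))))).1
  have h2 : pp M (g⁻¹ * pr M (i, 0) c * g) = 1 := by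
    have e : g⁻¹ * pr M (i, 0) c * g = (g⁻¹ * pr M (i, 0) a * g) * (g⁻¹ * pr M a c * g) := by
      rw [← pr_mul M hia hac]
      group
    rw [e, h.mul p1 p2, h1, ← h.mul p2 p2]
    have e2 : (g⁻¹ * pr M a c * g) * (g⁻¹ * pr M a c * g) = 1 := by
      have e3 : (g⁻¹ * pr M a c * g) * (g⁻¹ * pr M a c * g) = g⁻¹ * (pr M a c * pr M a c) * g := by group
      rw [e3, h.Vsq (pr_mem M _ _)]
      group
    rw [e2, h.one]
  exact cnt _ (pr_mem M _ _) n3 h2

/-! ### `V ≤ O` -/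

/-- `Z(O)` as a subgroup of `G` -/
def ZO (σ : G) : Subgroup G :=
  o2 (centralizer ({σ} : Set G)) ⊓ centralizer (o2 (centralizer ({σ} : Set G)) : Set G)

omit hO in
theorem conj_ZO {g x : G} (hg : g ∈ centralizer ({σ} : Set G)) (hx : x ∈ ZO σ) : g * x * g⁻¹ ∈ ZO σ := by
  refine ⟨conj_o2 h hσ hE hg hx.1, mem_centralizer_iff.2 fun u hu => ?_⟩
  have h1 := mem_centralizer_iff.1 hx.2 _ (conj_o2' h hσ hE hg hu)
  calc u * (g * x * g⁻¹) = g * (g⁻¹ * u * g * x) * g⁻¹ := by group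
    _ = g * (x * (g⁻¹ * u * g)) * g⁻¹ := by rw [h1]
    _ = g * x * g⁻¹ * u := by group

/-- `Z(O)` centralises `V` -/
theorem pp_ZO {z : G} (hz : z ∈ ZO σ) : pp M z = 1 := by
  classical
  by_contra hz1
  have hzO := hz.1
  have hfix : ∀ b : Pt k m, b.1 = i → b.2 ≠ 0 → pp M z b ≠ b := fun b hb hb0 e =>
    hz1 (act_one h hσ hE hzO (hO hzO) hb hb0 e)
  obtain ⟨a, ha, ha'⟩ := exists_third h hσ hE {(i, 0)} (by simp)
  have ha0 : a.2 ≠ 0 := fun e => ha' (Finset.mem_singleton.2 (Prod.ext ha e))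
  obtain ⟨c, hc, hc'⟩ := exists_third h hσ hE {(i, 0), a, pp M z a} Finset.card_le_three
  simp only [Finset.mem_insert, Finset.mem_singleton, not_or] at hc'
  have hc0 : c.2 ≠ 0 := fun e => hc'.1 (Prod.ext hc e)
  have hz0 := (mem_S0 h).1 (hO hzO)
  have h1 : pr M a (pp M z a) ∈ o2 (centralizer ({σ} : Set G)) := by
    rw [← comm_pr h hσ hE hO hzO a ha]
    set v := pr M (i, 0) a with hv
    have hvV : v ∈ V := pr_mem M _ _
    have hvv : v⁻¹ = v := inv_eq_of_mul_eq_one_left (h.Vsq hvV)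
    have h2 := (o2 (centralizer ({σ} : Set G))).mul_mem (conj_o2 h hσ hE (V_le h hσ hE hvV) hzO) (inv_mem hzO)
    rw [hvv] at h2
    have e : v * (z * v * z⁻¹) = v * z * v * z⁻¹ := by group
    rw [e]
    exact h2
  have hza : (pp M z a).1 = c.1 := (hz0.2 a).trans (ha.trans hc.symm)
  have hza0 : (pp M z a).2 ≠ 0 := fun e => ha0 ((h.snd hz0.1).1 e)
  obtain ⟨g, hg, hgp⟩ := exists_swap h hza
  have hgK : g ∈ centralizer ({σ} : Set G) := by
    rw [mem_centralizer_singleton_iff]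
    exact swap_comm h hg hgp hσ (E_eq h hσ hE hza (by simp only [hza0, hc0]))
  have h2 := conj_o2 h hσ hE hgK h1
  rw [h.conj_pr hg (hz0.2 a).symm, hgp, Equiv.swap_apply_left,
    Equiv.swap_apply_of_ne_of_ne (Ne.symm (hfix a ha ha0)) (Ne.symm hc'.2.1)] at h2
  rcases ne_of_pr h hσ hE hO hzO (ha.trans hc.symm) (Ne.symm hc'.2.1)
    (mem_centralizer_iff.1 hz.2 _ h2).symm with e | e
  · exact hfix a ha ha0 e
  · exact hc'.2.2 e.symm

/-- an element of `V` with support outside of the summand `i` lies in `Z(O)` -/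
theorem mem_ZO (hG : IsCharacteristicTwoType G) {v : G} (hv : v ∈ V) (hv0 : ∀ p : Pt k m, p.1 = i → E M v p = 0) :
    v ∈ ZO σ := by
  have h1 : ∀ u ∈ o2 (centralizer ({σ} : Set G)), u * v = v * u := fun u hu => by
    refine (h.comm_iff (h.SP ((mem_S0 h).1 (hO hu)).1) hv).2 fun p => ?_
    by_cases hp : p.1 = i
    · rw [hv0 p hp, hv0 _ ((((mem_S0 h).1 (hO hu)).2 p).trans hp)]
    · rw [act_out h hσ hE hu (hO hu) hp]
  have h2 : v ∈ centralizer (o2 (centralizer ({σ} : Set G)) : Set G) := mem_centralizer_iff.2 fun u hu => h1 u hu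
  exact ⟨char2_cent h hσ hE hG ⟨V_le h hσ hE hv, h2⟩, h2⟩

/-- `V ≤ O` -/
theorem V_le_o2 (hG : IsCharacteristicTwoType G) (hk : 2 ≤ k)
    (hf : ∀ U : Subgroup G, IsPGroup 2 U → U ≠ ⊥ → P0 h ≤ normalizer (U : Set G) →
      V ≤ o2 (normalizer (U : Set G))) : V ≤ o2 (centralizer ({σ} : Set G)) := by
  set K := centralizer ({σ} : Set G) with hK
  -- the core of `Z(O)` in `P0`
  let B : Subgroup G :=
    { carrier := {x | ∀ b ∈ P0 h, b * x * b⁻¹ ∈ ZO σ}
      one_mem' := fun b _ => by rw [mul_one, mul_inv_cancel]; exact one_mem _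
      mul_mem' := by
        intro x y hx hy b hb
        have e : b * (x * y) * b⁻¹ = (b * x * b⁻¹) * (b * y * b⁻¹) := by group
        rw [e]
        exact mul_mem (hx b hb) (hy b hb)
      inv_mem' := by
        intro x hx b hb
        have e : b * x⁻¹ * b⁻¹ = (b * x * b⁻¹)⁻¹ := by group
        rw [e]
        exact inv_mem (hx b hb) }
  have hB : ∀ x, x ∈ B ↔ ∀ b ∈ P0 h, b * x * b⁻¹ ∈ ZO σ := fun x => Iff.rfl
  have hBZ : B ≤ ZO σ := fun x hx => by
    have := (hB x).1 hx 1 (one_mem _)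
    rwa [one_mul, inv_one, mul_one] at this
  have hBP : P0 h ≤ normalizer (B : Set G) := mem_norm_of fun c hc x hx => by
    refine (hB _).2 fun b hb => ?_
    have e : b * (c * x * c⁻¹) * b⁻¹ = (b * c) * x * (b * c)⁻¹ := by group
    rw [e]
    exact (hB x).1 hx _ (mul_mem hb hc)
  have hB2 : IsPGroup 2 B := (o2_isPGroup _).to_le (hBZ.trans inf_le_left)
  -- `B ≠ 1`
  have hB1 : B ≠ ⊥ := by
    have : Nontrivial (Fin k) := Fin.nontrivial_iff_two_le.2 hk
    obtain ⟨l, hl⟩ := exists_ne i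
    have h01 : (0 : Fin (2 ^ m + 1)) ≠ 1 := by
      have h3 : 2 ^ 2 ≤ 2 ^ m := Nat.pow_le_pow_right (by norm_num) h.hm
      have : Nontrivial (Fin (2 ^ m + 1)) := Fin.nontrivial_iff_two_le.2 (by omega)
      exact zero_ne_one
    have hne : ((l, 0) : Pt k m) ≠ (l, 1) := fun e => h01 (Prod.ext_iff.1 e).2
    intro h0
    have h1 : pr M (l, 0) (l, 1) ∈ B := by
      refine (hB _).2 fun b hb => ?_
      obtain ⟨hbP, hbf⟩ := mem_P0.1 hb
      have hfst : ((l, 0) : Pt k m).1 = ((l, 1) : Pt k m).1 := rfl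
      rw [h.conj_pr hbP hfst]
      refine mem_ZO h hσ hE hO hG (pr_mem M _ _) fun p hp => ?_
      have h2 : (pp M b (l, 0)).1 = (pp M b (l, 1)).1 := h.fst hbP hfst
      refine E_pr_of_ne M h2 (fun e => hl ?_) fun e => hl ?_
      · rw [← hp, e, hbf]
      · rw [← hp, e, hbf]
    rw [h0, mem_bot] at h1
    have h2 := E_pr_left M (p := ((l, 0) : Pt k m)) (q := (l, 1)) rfl hne
    rw [h1, Half.SymA.E_one M] at h2
    exact zero_ne_one h2
  have hVM := hf B hB2 hB1 hBP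
  -- `Y = ⟨V ^ K⟩`
  set Y : Subgroup G := Subgroup.closure {x | ∃ g ∈ K, ∃ v ∈ V, g * v * g⁻¹ = x} with hY
  have hVY : V ≤ Y := fun v hv => subset_closure ⟨1, one_mem _, v, hv, by group⟩
  have hYK : Y ≤ K := by
    rw [hY, closure_le]
    rintro _ ⟨g, hg, v, hv, rfl⟩
    exact mul_mem (mul_mem hg (V_le h hσ hE hv)) (inv_mem hg)
  have hKY : K ≤ normalizer (Y : Set G) := mem_norm_of fun c hc y hy => by
    induction hy using closure_induction with
    | mem x hx =>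
      obtain ⟨g, hg, v, hv, rfl⟩ := hx
      exact subset_closure ⟨c * g, mul_mem hc hg, v, hv, by group⟩
    | one => rw [mul_one, mul_inv_cancel]; exact one_mem _
    | mul x y _ _ hx hy =>
      have e : c * (x * y) * c⁻¹ = (c * x * c⁻¹) * (c * y * c⁻¹) := by group
      rw [e]
      exact mul_mem hx hy
    | inv x _ hx =>
      have e : c * x⁻¹ * c⁻¹ = (c * x * c⁻¹)⁻¹ := by group
      rw [e]
      exact inv_mem hx
  have hYB : Y ≤ normalizer (B : Set G) := by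
    refine le_trans ?_ (centralizer_le_normalizer _)
    rw [hY, closure_le]
    rintro _ ⟨g, hg, v, hv, rfl⟩
    refine mem_centralizer_iff.2 fun x hx => ?_
    have h1 : g⁻¹ * x * g ∈ ZO σ := by
      have := conj_ZO h hσ hE (inv_mem hg) (hBZ hx)
      rwa [inv_inv] at this
    have h2 : (g⁻¹ * x * g) * v = v * (g⁻¹ * x * g) :=
      (mem_centralizer_iff.1 ((h.eq_one_iff (h.SP ((mem_S0 h).1 (hO h1.1)).1)).1 (pp_ZO h hσ hE hO h1)) v hv).symm
    calc x * (g * v * g⁻¹) = g * (g⁻¹ * x * g * v) * g⁻¹ := by group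
      _ = g * (v * (g⁻¹ * x * g)) * g⁻¹ := by rw [h2]
      _ = g * v * g⁻¹ * x := by group
  have h1 : o2 (normalizer (B : Set G)) ⊓ Y ≤ o2 Y := by
    refine le_o2 inf_le_right ((o2_isPGroup _).to_le inf_le_left) (mem_norm_of fun y hy x hx => ⟨?_, ?_⟩)
    · exact (mem_normalizer_iff.1 (le_normalizer_o2 _ (hYB hy)) x).1 hx.1
    · exact Y.mul_mem (Y.mul_mem hy hx.2) (Y.inv_mem hy)
  have h2 : o2 Y ≤ o2 K := by
    refine le_o2 ((o2_le Y).trans hYK) (o2_isPGroup Y) ?_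
    refine mem_norm_of fun g hg x hx => ?_
    have h3 : (o2 Y).map (MulAut.conj g).toMonoidHom ≤ o2 Y := by
      refine le_o2 ?_ ((o2_isPGroup Y).map _) ?_
      · rintro _ ⟨y, hy, rfl⟩
        exact (mem_normalizer_iff.1 (hKY hg) y).1 (o2_le Y hy)
      · refine mem_norm_of fun y hy x hx => ?_
        obtain ⟨w, hw, rfl⟩ := hx
        have h4 : g⁻¹ * y * g ∈ Y := by
          have := (mem_normalizer_iff.1 (hKY (inv_mem hg)) y).1 hy
          rwa [inv_inv] at this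
        refine ⟨(g⁻¹ * y * g) * w * (g⁻¹ * y * g)⁻¹,
          (mem_normalizer_iff.1 (le_normalizer_o2 _ h4) w).1 hw, ?_⟩
        change g * ((g⁻¹ * y * g) * w * (g⁻¹ * y * g)⁻¹) * g⁻¹ = y * (g * w * g⁻¹) * y⁻¹
        group
    exact h3 ⟨x, hx, rfl⟩
  exact fun v hv => h2 (h1 ⟨hVM hv, hVY hv⟩)

/-- **`⟨V ^ K⟩` is abelian**, `K = C_G(σ_i)`. -/
theorem commK (hG : IsCharacteristicTwoType G) (hk : 2 ≤ k)
    (hf : ∀ U : Subgroup G, IsPGroup 2 U → U ≠ ⊥ → P0 h ≤ normalizer (U : Set G) →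
      V ≤ o2 (normalizer (U : Set G))) {g : G} (hg : g ∈ centralizer ({σ} : Set G)) {v w : G} (hv : v ∈ V)
    (hw : w ∈ V) : v * (g * w * g⁻¹) = g * w * g⁻¹ * v :=
  comm_of_le h hσ hE hO (V_le_o2 h hσ hE hO hG hk hf) hg hv hw

/-- **`⟨V ^ K⟩` is abelian**, `3 ≤ m`; moreover `V ≤ Z(O)`. -/
theorem commK_three (hG : IsCharacteristicTwoType G) (h3 : 3 ≤ m) {g : G}
    (hg : g ∈ centralizer ({σ} : Set G)) {v w : G} (hv : v ∈ V) (hw : w ∈ V) :
    v * (g * w * g⁻¹) = g * w * g⁻¹ * v :=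
  comm_of_triv h hσ hE hO hG (fun _ hu => act_three h hσ hE h3 hu (hO hu)) hg hv hw

end main

end

/-- `O₂(C_G(σ_i)) ≤ S0` (LEMMA R (b)) -/
theorem o2_le_S0 [Finite G] {S : Sylow 2 G} {M : SymK (S : Subgroup G) P V ⊥ k m} (h : Sit S P V M)
    (hZV : zc (o2 P) ≤ V) (i : Fin k) : o2 (centralizer ({(sg h i).val} : Set G)) ≤ S0 h :=
  lemR_b h hZV i (o2_isPGroup _) ((S0_le_K h (sg_mem h i) (E_sg h i)).trans (le_normalizer_o2 _))
    (fun _ hy hy0 _ hp => act_out h (sg_mem h i) (E_sg h i) hy hy0 hp)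
    fun _ hy => mem_centralizer_singleton_iff.1 (o2_le _ hy)

/-- **`⟨V ^ C_G(σ_i)⟩` is abelian**: `2 ≤ m` arbitrary, `2 ≤ k` or `3 ≤ m`. -/
theorem esig [Finite G] {S : Sylow 2 G} {M : SymK (S : Subgroup G) P V ⊥ k m} (h : Sit S P V M)
    (hG : IsCharacteristicTwoType G) (hZV : zc (o2 P) ≤ V) (hkm : 2 ≤ k ∨ 3 ≤ m) (i : Fin k) {g : G}
    (hg : g ∈ centralizer ({(sg h i).val} : Set G)) {v w : G} (hv : v ∈ V) (hw : w ∈ V) :
    v * (g * w * g⁻¹) = g * w * g⁻¹ * v := by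
  rcases hkm with hk | h3
  · exact commK h (sg_mem h i) (E_sg h i) (o2_le_S0 h hZV i) hG hk (fun U hU hU1 hU0 =>
      (HF_nor hG h hZV hU hU1 fun g hg hg1 => hU0 (mem_P0.2 ⟨hg, hg1⟩)).2.trans (zc_le _)) hg hv hw
  · exact commK_three h (sg_mem h i) (E_sg h i) (o2_le_S0 h hZV i) hG h3 hg hv hw

/-- `V ≤ O₂(C_G(σ_i))` -/
theorem V_le_o2_sg [Finite G] {S : Sylow 2 G} {M : SymK (S : Subgroup G) P V ⊥ k m} (h : Sit S P V M)
    (hG : IsCharacteristicTwoType G) (hZV : zc (o2 P) ≤ V) (hkm : 2 ≤ k ∨ 3 ≤ m) (i : Fin k) :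
    V ≤ o2 (centralizer ({(sg h i).val} : Set G)) := by
  rcases hkm with hk | h3
  · exact V_le_o2 h (sg_mem h i) (E_sg h i) (o2_le_S0 h hZV i) hG hk (fun U hU hU1 hU0 =>
      (HF_nor hG h hZV hU hU1 fun g hg hg1 => hU0 (mem_P0.2 ⟨hg, hg1⟩)).2.trans (zc_le _))
  · have hO := o2_le_S0 h hZV i
    intro v hv
    refine char2_cent h (sg_mem h i) (E_sg h i) hG ⟨V_le h (sg_mem h i) (E_sg h i) hv,
      mem_centralizer_iff.2 fun u hu => ?_⟩
    exact (mem_centralizer_iff.1 ((h.eq_one_iff (h.SP ((mem_S0 h).1 (hO hu)).1)).1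
      (act_three h (sg_mem h i) (E_sg h i) h3 hu (hO hu))) v hv).symm

/-- **`⟨V ^ C_G(σ_i)⟩` is abelian**, for `SymWr.Sit`, `σ` given by its characteristic function -/
theorem esig_of [Finite G] {S : Sylow 2 G} {M : SymK (S : Subgroup G) P V ⊥ k m} (h : SymWr.Sit S P V M)
    (hG : IsCharacteristicTwoType G) (hZV : zc (o2 P) ≤ V) (hkm : 2 ≤ k ∨ 3 ≤ m) {i : Fin k} {σ : G} (hσ : σ ∈ V)
    (hE : ∀ p : Pt k m, E M σ p = if p.1 = i then (if p.2 = 0 then 0 else 1) else 0) {g : G}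
    (hg : g * σ = σ * g) {v w : G} (hv : v ∈ V) (hw : w ∈ V) : v * (g * w * g⁻¹) = g * w * g⁻¹ * v := by
  have hD := Sit.of_sit h
  have e : σ = (sg hD i).val := Half.SymA.inj M hσ (sg_mem hD i) fun p => by rw [hE, E_sg]
  exact esig hD hG hZV hkm i (mem_centralizer_singleton_iff.2 (by rw [← e]; exact hg)) hv hw

/-- `O₂(C_G(σ_i)) ≤ O₂(P)`, `3 ≤ m` -/
theorem o2_sg_le_Q [Finite G] {S : Sylow 2 G} {M : SymK (S : Subgroup G) P V ⊥ k m} (h : Sit S P V M)
    (hZV : zc (o2 P) ≤ V) (h3 : 3 ≤ m) (i : Fin k) : o2 (centralizer ({(sg h i).val} : Set G)) ≤ o2 P := by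
  have hO := o2_le_S0 h hZV i
  intro u hu
  rw [h.mem_Q_iff ((mem_S0 h).1 (hO hu)).1]
  exact act_three h (sg_mem h i) (E_sg h i) h3 hu (hO hu)

end Cfsg.Agent.Omega.IId.SwB
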