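import Cfsg.Agent.Mrg.Omega.IId.M4.Entry
import Cfsg.Agent.Mrg.Omega.IId.LFour.LemO
import Cfsg.Agent.Mrg.Omega.IId.SymWr.Ht.Line
import Cfsg.Agent.Mrg.Omega.IId.SymWr.SylN.Base


/-!
# II.d, `SwBig`: the side `Side` of a sum of even-subset modules (bb OMEGA #20414 (8), helper290)

`h : Sit S P V M`, `F : Fours M μ ν`, `x.2 ≠ 0`, `n = pr M x (μ x)`, `T = C_S(n)`; `zv : Ω₁Z(O₂(P)) ≤ V`;
`syl` : `T` has odd index in `C_G(n)`.

* `L3 M p q r` : the elements of `V` which vanish outside `p, q, r`; `D3 h p q r` : the elements of `P` which move only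
  `p, q, r`; `ml3` : `L3` as `RMod (ZMod 2)`; `exists_lift3`;
* `lemJ` : LEMMA J without a partner; `split`; `exists_pair` (`k ≥ 2`);
* **`side`** : `Side (ml3 ..) n T (D3 ..)`.
-/

set_option autoImplicit false
set_option linter.unusedSectionVars false

namespace Cfsg.Agent.Omega.IId.SwB.SymS

open Subgroup Cfsg Cfsg.Agent.Omega.MinPar Cfsg.Agent.Omega.FFThm Cfsg.Agent.Omega.IId.SymWr
open Cfsg.Agent.ZN (o2 zc)
open Cfsg.Agent.Lib.SL2Mat
open Cfsg.Agent.Omega.Half (Amb amb_of_loc)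
open Cfsg.Agent.Omega.Half.SymA (Pt E Mv pm E_mul E_one E_inv zmod2)
open Cfsg.Agent.Omega.IId.SymWr.Ht (tn Tri)
open Cfsg.Agent.Omega.Mix (RMod)
open Cfsg.Agent.Omega.NatPair (ap)
open Cfsg.Agent.MinSimple.VModule (le_normalizer_o2 o2_isPGroup o2_le mem_zc zc_le)

universe u

variable {G : Type u} [Group G] {k m : ℕ}

/-! ### `L3` -/

section L3

variable {S P V : Subgroup G} (M : SymK S P V ⊥ k m) (p q r : Pt k m)

/-- the elements of `V` which vanish outside `p, q, r` -/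
def L3 : Subgroup G where
  carrier := {v | v ∈ V ∧ ∀ s, s ≠ p → s ≠ q → s ≠ r → E M v s = 0}
  one_mem' := ⟨one_mem _, fun s _ _ _ => E_one M s⟩
  mul_mem' := by
    rintro a b ⟨ha, ha1⟩ ⟨hb, hb1⟩
    refine ⟨mul_mem ha hb, fun s h1 h2 h3 => ?_⟩
    rw [E_mul M ha hb, ha1 s h1 h2 h3, hb1 s h1 h2 h3, add_zero]
  inv_mem' := by
    rintro a ⟨ha, ha1⟩
    refine ⟨inv_mem ha, fun s h1 h2 h3 => ?_⟩
    rw [E_inv M ha, ha1 s h1 h2 h3]

variable {M p q r}

theorem L3_le : L3 M p q r ≤ V := fun _ hv => hv.1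

/-- the element with the coordinates `u 0 + u 1, u 0, u 1` -/
noncomputable def e3 (M : SymK S P V ⊥ k m) (p q r : Pt k m) (u : Fin 2 → ZMod 2) : G := sc (u 0) (pr M p q) * sc (u 1) (pr M p r)

theorem e3_mem (u : Fin 2 → ZMod 2) : e3 M p q r u ∈ V := mul_mem (sc_mem (pr_mem M _ _)) (sc_mem (pr_mem M _ _))

theorem E_e3 (u : Fin 2 → ZMod 2) (s : Pt k m) :
    E M (e3 M p q r u) s = u 0 * E M (pr M p q) s + u 1 * E M (pr M p r) s := by
  rw [e3, E_mul M (sc_mem (pr_mem M _ _)) (sc_mem (pr_mem M _ _)), E_sc, E_sc]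

/-- the coordinates -/
def w3 (u : Fin 2 → ZMod 2) : Fin 3 → ZMod 2 := ![u 0 + u 1, u 0, u 1]

theorem w3_lift : ∀ a b c d : ZMod 2, a * d - b * c = 1 → ∃ σ : Equiv.Perm (Fin 3),
    ∀ u : Fin 2 → ZMod 2, ∀ i, w3 ![a * u 0 + b * u 1, c * u 0 + d * u 1] (σ i) = w3 u i := by
  decide +kernel

/-- two elements of `V` with the same coordinates at `q, r` and outside `p, q, r` are equal -/
theorem ext3 (M : SymK S P V ⊥ k m) (t : Tri p q r) {v w : G} (hv : v ∈ V) (hw : w ∈ V) (h : ∀ s, s ≠ p → E M v s = E M w s) :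
    v = w := by
  have hvw : v * w⁻¹ ∈ V := mul_mem hv (inv_mem hw)
  have h0 : ∀ s, s ≠ p → E M (v * w⁻¹) s = 0 := by
    intro s hs
    rw [E_mul M hv (inv_mem hw), E_inv M hw, h s hs]
    exact CharTwo.add_self_eq_zero _
  have h1 : E M (v * w⁻¹) p = 0 := by
    have h2 : ∑ y, E M (v * w⁻¹) (p.1, y) = 0 := M.even _ hvw p.1
    rw [Fintype.sum_eq_single p.2 (fun y hy => h0 _ fun e => hy (congrArg Prod.snd e))] at h2
    exact h2
  have h3 : v * w⁻¹ = 1 := Half.SymA.eq_one M hvw fun s => by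
    by_cases hs : s = p
    · rw [hs]; exact h1
    · exact h0 s hs
  exact mul_inv_eq_one.1 h3

variable (t : Tri p q r)
include t

theorem E_e3_p (u : Fin 2 → ZMod 2) : E M (e3 M p q r u) p = u 0 + u 1 := by
  rw [E_e3, E_pr_left M t.pq t.n1, E_pr_left M t.pr t.n2, mul_one, mul_one]

theorem E_e3_q (u : Fin 2 → ZMod 2) : E M (e3 M p q r u) q = u 0 := by
  rw [E_e3, E_pr_right M t.pq t.n1, E_pr_of_ne M t.pr t.n1.symm t.n3, mul_one, mul_zero, add_zero]

theorem E_e3_r (u : Fin 2 → ZMod 2) : E M (e3 M p q r u) r = u 1 := by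
  rw [E_e3, E_pr_right M t.pr t.n2, E_pr_of_ne M t.pq t.n2.symm t.n3.symm, mul_one, mul_zero, zero_add]

theorem E_e3_of_ne (u : Fin 2 → ZMod 2) {s : Pt k m} (h1 : s ≠ p) (h2 : s ≠ q) (h3 : s ≠ r) :
    E M (e3 M p q r u) s = 0 := by
  rw [E_e3, E_pr_of_ne M t.pq h1 h2, E_pr_of_ne M t.pr h1 h3, mul_zero, mul_zero, add_zero]

theorem e3_add (u w : Fin 2 → ZMod 2) : e3 M p q r (u + w) = e3 M p q r u * e3 M p q r w := by
  refine ext3 M t (e3_mem _) (mul_mem (e3_mem _) (e3_mem _)) fun s _ => ?_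
  rw [E_mul M (e3_mem _) (e3_mem _), E_e3, E_e3, E_e3, Pi.add_apply, Pi.add_apply]
  ring

theorem e3_inj : Function.Injective (e3 M p q r) := by
  intro u w h
  funext i
  fin_cases i
  · have h1 := E_e3_q (M := M) t u
    rw [h, E_e3_q t] at h1
    exact h1.symm
  · have h1 := E_e3_r (M := M) t u
    rw [h, E_e3_r t] at h1
    exact h1.symm

theorem mem_L3 {g : G} : g ∈ L3 M p q r ↔ ∃ u, e3 M p q r u = g := by
  constructor
  · rintro ⟨hg, h1⟩
    refine ⟨![E M g q, E M g r], ext3 M t (e3_mem _) hg fun s hs => ?_⟩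
    by_cases hq : s = q
    · rw [hq, E_e3_q t]; rfl
    by_cases hr : s = r
    · rw [hr, E_e3_r t]; rfl
    rw [E_e3_of_ne t _ hs hq hr, h1 s hs hq hr]
  · rintro ⟨u, rfl⟩
    exact ⟨e3_mem _, fun s h1 h2 h3 => E_e3_of_ne t u h1 h2 h3⟩

end L3

/-! ### `D3` -/

section D3

variable {S : Sylow 2 G} {P V : Subgroup G} {M : SymK (S : Subgroup G) P V ⊥ k m} (h : Sit S P V M)
  {p q r : Pt k m}
include h

/-- the elements of `P` which move only `p, q, r` -/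
def D3 (h : Sit S P V M) (p q r : Pt k m) : Subgroup G where
  carrier := {g | g ∈ P ∧ ∀ s, s ≠ p → s ≠ q → s ≠ r → pp M g s = s}
  one_mem' := ⟨one_mem _, fun s _ _ _ => by rw [h.one]; rfl⟩
  mul_mem' := by
    rintro a b ⟨ha, ha1⟩ ⟨hb, hb1⟩
    refine ⟨mul_mem ha hb, fun s h1 h2 h3 => ?_⟩
    rw [h.mul ha hb, Equiv.Perm.mul_apply, hb1 s h1 h2 h3, ha1 s h1 h2 h3]
  inv_mem' := by
    rintro a ⟨ha, ha1⟩
    refine ⟨inv_mem ha, fun s h1 h2 h3 => ?_⟩
    rw [h.inv ha, Equiv.Perm.inv_eq_iff_eq, ha1 s h1 h2 h3]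

theorem D3_le : D3 h p q r ≤ P := fun _ hg => hg.1

/-- elements which preserve the vanishing set normalise `L3` -/
theorem norm_L3 {g : G} (hg : g ∈ P) (h1 : ∀ s, s ≠ p → s ≠ q → s ≠ r →
    pp M g s ≠ p ∧ pp M g s ≠ q ∧ pp M g s ≠ r) (h2 : ∀ s, pp M g s ≠ p → pp M g s ≠ q → pp M g s ≠ r →
    s ≠ p ∧ s ≠ q ∧ s ≠ r) : g ∈ normalizer (L3 M p q r : Set G) := by
  rw [mem_normalizer_iff]
  intro v
  constructor
  · rintro ⟨hv, hv1⟩
    refine ⟨h.amb.conj_mem hg hv, fun s a b c => ?_⟩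
    obtain ⟨s', rfl⟩ := (pp M g).surjective s
    rw [E_conj (M := M) hg hv]
    obtain ⟨a', b', c'⟩ := h2 s' a b c
    exact hv1 s' a' b' c'
  · rintro ⟨hv, hv1⟩
    have hvV : v ∈ V := by
      have := h.amb.conj_mem (inv_mem hg) hv
      have e : g⁻¹ * (g * v * g⁻¹) * g⁻¹⁻¹ = v := by group
      rwa [e] at this
    refine ⟨hvV, fun s a b c => ?_⟩
    rw [← E_conj (M := M) hg hvV]
    obtain ⟨a', b', c'⟩ := h1 s a b c
    exact hv1 _ a' b' c'

theorem D3_norm : D3 h p q r ≤ normalizer (L3 M p q r : Set G) := by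
  intro g hg
  refine norm_L3 h hg.1 (fun s a b c => ?_) (fun s a b c => ?_)
  · rw [hg.2 s a b c]
    exact ⟨a, b, c⟩
  · have h1 := (pp M g).injective (hg.2 _ a b c)
    rw [← h1]
    exact ⟨a, b, c⟩

/-- `D3` centralises the elements of `V` which are constant on `p, q, r` -/
theorem D3_comm {g : G} (hg : g ∈ D3 h p q r) {v : G} (hv : v ∈ V) (h1 : E M v p = E M v q)
    (h2 : E M v p = E M v r) : g * v = v * g := by
  rw [h.comm_iff hg.1 hv]
  have key : ∀ s, s = p ∨ s = q ∨ s = r → E M v s = E M v p := by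
    rintro s (rfl | rfl | rfl)
    · rfl
    · exact h1.symm
    · exact h2.symm
  intro s
  by_cases hs : s = p ∨ s = q ∨ s = r
  · rw [key s hs]
    refine key _ ?_
    by_contra hcon
    push Not at hcon
    have h3 := (pp M g).injective (hg.2 _ hcon.1 hcon.2.1 hcon.2.2)
    rw [h3] at hcon
    exact hcon.1 (hs.resolve_right fun h4 => h4.elim hcon.2.1 hcon.2.2)
  · push Not at hs
    rw [hg.2 s hs.1 hs.2.1 hs.2.2]

variable (t : Tri p q r)
include t

/-- **`D3` induces `SL₂(2)` on `L3`** -/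
theorem exists_lift3 (A : Matrix.SpecialLinearGroup (Fin 2) (ZMod 2)) :
    ∃ g ∈ D3 h p q r, ∀ u, g * e3 M p q r u * g⁻¹ = e3 M p q r (ap A u) := by
  classical
  obtain ⟨σ, hσ⟩ := w3_lift _ _ _ _ (LFour.MixedW.ent_mul_eq A)
  let ι : Fin 3 ↪ Pt k m := ⟨![p, q, r], by
    intro i j hij
    fin_cases i <;> fin_cases j
    · rfl
    · exact absurd hij t.n1
    · exact absurd hij t.n2
    · exact absurd hij t.n1.symm
    · rfl
    · exact absurd hij t.n3
    · exact absurd hij t.n2.symm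
    · exact absurd hij t.n3.symm
    · rfl⟩
  have hι : ∀ s, s ∉ Set.range ι ↔ s ≠ p ∧ s ≠ q ∧ s ≠ r := by
    intro s
    constructor
    · intro hs
      exact ⟨fun e => hs ⟨0, e.symm⟩, fun e => hs ⟨1, e.symm⟩, fun e => hs ⟨2, e.symm⟩⟩
    · rintro ⟨h1, h2, h3⟩ ⟨i, hi⟩
      fin_cases i
      · exact h1 hi.symm
      · exact h2 hi.symm
      · exact h3 hi.symm
  have hι1 : ∀ i, (ι i).1 = p.1 := by
    intro i
    fin_cases i
    · rfl
    · exact t.pq.symm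
    · exact t.pr.symm
  have hE : ∀ u i, E M (e3 M p q r u) (ι i) = w3 u i := by
    intro u i
    fin_cases i
    · exact E_e3_p t u
    · exact E_e3_q t u
    · exact E_e3_r t u
  set π : Equiv.Perm (Pt k m) := σ.viaFintypeEmbedding ι with hπ
  have hπ1 : ∀ i, π (ι i) = ι (σ i) := fun i => Equiv.Perm.viaFintypeEmbedding_apply_image σ ι i
  have hπ2 : ∀ s, s ∉ Set.range ι → π s = s := fun s hs => Equiv.Perm.viaFintypeEmbedding_apply_notMem_range σ ι hs
  obtain ⟨g, hg, hgπ⟩ := h.exists_pp (π := π) (by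
    intro s
    by_cases hs : s ∈ Set.range ι
    · obtain ⟨i, rfl⟩ := hs
      rw [hπ1, hι1, hι1]
    · rw [hπ2 s hs])
  refine ⟨g, ⟨hg, fun s h1 h2 h3 => ?_⟩, fun u => ?_⟩
  · rw [hgπ]
    exact hπ2 s ((hι s).2 ⟨h1, h2, h3⟩)
  · refine Half.SymA.inj M (h.amb.conj_mem hg (e3_mem _)) (e3_mem _) fun s => ?_
    obtain ⟨s, rfl⟩ := π.surjective s
    have h1 := E_conj (M := M) hg (e3_mem (M := M) (p := p) (q := q) (r := r) u) s
    rw [hgπ] at h1
    rw [h1]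
    by_cases hs : s ∈ Set.range ι
    · obtain ⟨i, rfl⟩ := hs
      rw [hπ1, hE, hE]
      exact (hσ u i).symm
    · rw [hπ2 s hs]
      obtain ⟨a, b, c⟩ := (hι s).1 hs
      rw [E_e3_of_ne t _ a b c, E_e3_of_ne t _ a b c]

/-- `L3` as a module for `SL₂(2)` -/
noncomputable def ml3 (h : Sit S P V M) (t : Tri p q r) : RMod (ZMod 2) (L3 M p q r) (normalizer (L3 M p q r : Set G)) :=
  LFour.MixedW.four (e := e3 M p q r) (e3_add t) (e3_inj t) (fun _ => mem_L3 t)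
    (fun A => by
      obtain ⟨g, -, hg⟩ := exists_lift3 h t A
      exact ⟨g, hg⟩)

theorem ml3_e (u : Fin 2 → ZMod 2) : (ml3 h t).e u = e3 M p q r u := rfl

theorem e3_10 : e3 M p q r ![1, 0] = pr M p q := by
  show sc 1 _ * sc 0 _ = _
  rw [sc_one, sc_zero, mul_one]

theorem mem_line3 {g : G} : g ∈ (ml3 h t).line ![1, 0] ↔ g = 1 ∨ g = pr M p q := by
  rw [RMod.mem_line]
  constructor
  · rintro ⟨c, rfl⟩
    have hc : c = 0 ∨ c = 1 := by revert c; decide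
    rcases hc with rfl | rfl
    · left
      rw [zero_smul]
      exact (ml3 h t).e_zero
    · right
      rw [one_smul, ml3_e, e3_10 h t]
  · rintro (rfl | rfl)
    · refine ⟨0, ?_⟩
      rw [zero_smul]
      exact (ml3 h t).e_zero
    · refine ⟨1, ?_⟩
      rw [one_smul, ml3_e, e3_10 h t]

end D3

/-! ### `T = C_S(n)` -/

section tn

variable {S : Sylow 2 G} {P V : Subgroup G} {M : SymK (S : Subgroup G) P V ⊥ k m} (h : Sit S P V M)
  {μ ν : Equiv.Perm (Pt k m)} (F : Fours M μ ν) {x : Pt k m} (hx : x.2 ≠ 0)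

include h in
theorem pr_sq {p q : Pt k m} : pr M p q * pr M p q = 1 := h.Vsq (pr_mem M p q)

include h in
/-- an element acting as `(p q)` -/
theorem conj_swap {g : G} (hg : g ∈ P) {p q : Pt k m} (hpq : p.1 = q.1) (hgp : pp M g = Equiv.swap p q) {v : G}
    (hv : v ∈ V) (hE : E M v p ≠ E M v q) : g * v * g⁻¹ = v * pr M p q := by
  classical
  refine Half.SymA.inj M (h.amb.conj_mem hg hv) (mul_mem hv (pr_mem M p q)) fun r => ?_
  rw [E_conj' hg hv, hgp, Equiv.swap_inv, E_mul M hv (pr_mem M p q), E_pr M hpq]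
  have h3 : ∀ a b : ZMod 2, a ≠ b → a = b + 1 := by decide
  have hne : p ≠ q := fun e => hE (by rw [e])
  rcases eq_or_ne r p with rfl | hr
  · rw [Equiv.swap_apply_left, if_pos rfl, if_neg hne, add_zero]
    exact h3 _ _ hE.symm
  · rcases eq_or_ne r q with rfl | hr'
    · rw [Equiv.swap_apply_right, if_neg hne.symm, if_pos rfl, zero_add]
      exact h3 _ _ hE
    · rw [Equiv.swap_apply_of_ne_of_ne hr hr', if_neg hr, if_neg hr', add_zero, add_zero]

include h in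
theorem comm_swap {g : G} (hg : g ∈ P) {p q : Pt k m} (hgp : pp M g = Equiv.swap p q) {v : G} (hv : v ∈ V)
    (hE : E M v p = E M v q) : g * v = v * g := by
  rw [h.comm_iff hg hv, hgp]
  intro r
  rcases eq_or_ne r p with rfl | hr
  · rw [Equiv.swap_apply_left, hE]
  · rcases eq_or_ne r q with rfl | hr'
    · rw [Equiv.swap_apply_right, hE]
    · rw [Equiv.swap_apply_of_ne_of_ne hr hr']

include h in
theorem pr_ne {p q : Pt k m} (hpq : p.1 = q.1) (hne : p ≠ q) : pr M p q ≠ 1 := fun e => by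
  have h1 := E_pr_left M hpq hne
  rw [e, E_one] at h1
  exact zero_ne_one h1

include F hx in
/-- the points `x`, `μ x`, `0` -/
theorem tri : Tri x (μ x) (x.1, 0) where
  pq := (F.mfst x).symm
  pr := rfl
  n1 := (F.mne x hx).symm
  n2 := fun e => hx (congrArg Prod.snd e)
  n3 := fun e => hx (F.mnz.1 (congrArg Prod.snd e))

include h F hx

theorem tn_pp {s : G} (hs : s ∈ tn S M μ x) : (pp M s x = x ∧ pp M s (μ x) = μ x) ∨
    (pp M s x = μ x ∧ pp M s (μ x) = x) := by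
  have t := tri F hx
  have hsP := h.SP hs.1
  have h1 := (h.comm_iff hsP (pr_mem M x (μ x))).1 (mem_centralizer_singleton_iff.1 hs.2)
  have key : ∀ c, E M (pr M x (μ x)) c = 1 → c = x ∨ c = μ x := by
    intro c hc
    by_contra hcon
    push Not at hcon
    rw [E_pr_of_ne M t.pq hcon.1 hcon.2] at hc
    exact zero_ne_one hc
  have h2 := key _ ((h1 x).trans (E_pr_left M t.pq t.n1))
  have h3 := key _ ((h1 (μ x)).trans (E_pr_right M t.pq t.n1))
  rcases h2 with h2 | h2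
  · exact Or.inl ⟨h2, h3.resolve_left fun e => t.n1 ((pp M s).injective (h2.trans e.symm))⟩
  · exact Or.inr ⟨h2, h3.resolve_right fun e => t.n1 ((pp M s).injective (h2.trans e.symm))⟩

/-- the fixed point of `S` in the summand is fixed -/
theorem tn_zero {s : G} (hs : s ∈ tn S M μ x) : pp M s (x.1, 0) = (x.1, 0) := by
  have hsP := h.SP hs.1
  have h1 : (pp M s (x.1, 0)).2 = 0 := (h.snd hs.1).2 rfl
  have h2 : (pp M s (x.1, 0)).1 = (pp M s x).1 := h.fst hsP rfl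
  have h3 : (pp M s x).1 = x.1 := by
    rcases tn_pp h F hx hs with e | e
    · rw [e.1]
    · rw [e.1, F.mfst]
  exact Prod.ext (h2.trans h3) h1

/-- `T` normalises `L3` -/
theorem tn_norm : tn S M μ x ≤ normalizer (L3 M x (μ x) (x.1, 0) : Set G) := by
  intro s hs
  have h0 := tn_zero h F hx hs
  have hinj := (pp M s).injective
  refine norm_L3 h (h.SP hs.1) (fun c a b d => ?_) (fun c a b d => ?_)
  · refine ⟨fun e => ?_, fun e => ?_, fun e => d (hinj (e.trans h0.symm))⟩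
    · rcases tn_pp h F hx hs with ⟨a1, a2⟩ | ⟨a1, a2⟩
      · exact a (hinj (e.trans a1.symm))
      · exact b (hinj (e.trans a2.symm))
    · rcases tn_pp h F hx hs with ⟨a1, a2⟩ | ⟨a1, a2⟩
      · exact b (hinj (e.trans a2.symm))
      · exact a (hinj (e.trans a1.symm))
  · refine ⟨fun e => ?_, fun e => ?_, fun e => d (by rw [e, h0])⟩
    · rcases tn_pp h F hx hs with ⟨a1, a2⟩ | ⟨a1, a2⟩
      · exact a (by rw [e, a1])
      · exact b (by rw [e, a1])
    · rcases tn_pp h F hx hs with ⟨a1, a2⟩ | ⟨a1, a2⟩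
      · exact b (by rw [e, a2])
      · exact a (by rw [e, a2])

theorem V_le_tn : V ≤ tn S M μ x := fun _ hv =>
  ⟨h.VS hv, mem_centralizer_singleton_iff.2 (h.Vcomm hv (pr_mem M _ _))⟩

theorem Q_le_tn : o2 P ≤ tn S M μ x := fun y hy => by
  refine ⟨h.QS hy, mem_centralizer_singleton_iff.2 ?_⟩
  have h1 : y ∈ centralizer (V : Set G) := by
    have := h.Q_eq ▸ hy
    exact this.2
  exact (mem_centralizer_iff.1 h1 _ (pr_mem M _ _)).symm

/-- the elements of `T` acting as `(c μ(c))` -/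
theorem exists_swap [Finite G] {c : Pt k m} : ∃ s ∈ tn S M μ x, pp M s = Equiv.swap c (μ c) := by
  have hmem : Equiv.swap c (μ c) ∈ F.FA := by
    intro y
    by_cases h1 : y = c
    · rw [h1, Equiv.swap_apply_left]; exact Or.inr rfl
    by_cases h2 : y = μ c
    · rw [h2, Equiv.swap_apply_right, F.msq]; exact Or.inr rfl
    · rw [Equiv.swap_apply_of_ne_of_ne h1 h2]; exact Or.inl rfl
  obtain ⟨s, hs, e⟩ := Fours.exists_A h F hmem
  refine ⟨s, ⟨hs.1, mem_centralizer_singleton_iff.2 (h.comm_pr (h.SP hs.1) (F.mfst x).symm ?_)⟩, e⟩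
  rw [e]
  by_cases h1 : x = c
  · right
    rw [← h1, Equiv.swap_apply_left, Equiv.swap_apply_right]
    exact ⟨rfl, rfl⟩
  by_cases h2 : x = μ c
  · right
    have h3 : c = μ x := by rw [h2, F.msq]
    rw [← h3, ← h2, Equiv.swap_apply_right, Equiv.swap_apply_left]
    exact ⟨rfl, rfl⟩
  · left
    have h3 : μ x ≠ c := fun e => h2 (by rw [← e, F.msq])
    have h4 : μ x ≠ μ c := fun e => h1 (μ.injective e)
    exact ⟨Equiv.swap_apply_of_ne_of_ne h1 h2, Equiv.swap_apply_of_ne_of_ne h3 h4⟩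

variable (zv : zc (o2 P) ≤ V)
include zv

/-- `C(T)` : involutions centralising `Q` lie in `V` -/
theorem mem_V_of {z : G} (hz : z * z = 1) (hQ : ∀ y ∈ o2 P, y * z = z * y) : z ∈ V :=
  zv (mem_zc.2 ⟨h.cQ (mem_centralizer_iff.2 fun y hy => hQ y hy), fun y hy => hQ y hy, by rw [pow_two]; exact hz⟩)

theorem zc_tn_le : zc (tn S M μ x) ≤ V := fun z hz => by
  have h1 := mem_zc.1 hz
  exact mem_V_of h F hx zv (by rw [← pow_two]; exact h1.2.2) fun y hy => h1.2.1 y (Q_le_tn h F hx hy)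

theorem zc_tn_mu [Finite G] {z : G} (hz : z ∈ zc (tn S M μ x)) (c : Pt k m) : E M z (μ c) = E M z c := by
  obtain ⟨s, hs, e⟩ := exists_swap h F hx (c := c)
  have h1 := (h.comm_iff (h.SP hs.1) (zc_tn_le h F hx zv hz)).1 ((mem_zc.1 hz).2.1 s hs) c
  rwa [e, Equiv.swap_apply_left] at h1

theorem zc_tn_zero [Finite G] {z : G} (hz : z ∈ zc (tn S M μ x)) (i : Fin k) : E M z (i, 0) = 0 := by
  have hzV := zc_tn_le h F hx zv hz
  have h1 : ∑ y, E M z (i, y) = 0 := M.even z hzV i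
  have h2 : ∑ y ∈ Finset.univ.erase (0 : Fin (2 ^ m + 1)), E M z (i, y) = 0 := by
    refine Finset.sum_involution (fun y _ => (μ (i, y)).2) ?_ ?_ ?_ ?_
    · intro y _
      have e : ((i, (μ (i, y)).2) : Pt k m) = μ (i, y) := Prod.ext (F.mfst (i, y)).symm rfl
      rw [e, zc_tn_mu h F hx zv hz]
      exact CharTwo.add_self_eq_zero _
    · intro y hy hne e
      have hy0 : ((i, y) : Pt k m).2 ≠ 0 := (Finset.mem_erase.1 hy).1
      exact F.mne (i, y) hy0 (Prod.ext (F.mfst (i, y)) e)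
    · intro y hy
      have hy0 : ((i, y) : Pt k m).2 ≠ 0 := (Finset.mem_erase.1 hy).1
      exact Finset.mem_erase.2 ⟨fun e => hy0 (F.mnz.1 e), Finset.mem_univ _⟩
    · intro y hy
      have e : ((i, (μ (i, y)).2) : Pt k m) = μ (i, y) := Prod.ext (F.mfst (i, y)).symm rfl
      show (μ (i, (μ (i, y)).2)).2 = y
      rw [e, F.msq]
  rw [← Finset.add_sum_erase _ _ (Finset.mem_univ (0 : Fin (2 ^ m + 1))), h2, add_zero] at h1
  exact h1

/-- `Ω₁Z(T) ≤ ⟨n⟩ C(D3)` -/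
theorem split [Finite G] {f : G} (hf : f ∈ zc (tn S M μ x)) : ∃ u, (u = 1 ∨ u = pr M x (μ x)) ∧
    ∃ z, f = u * z ∧ ∀ g ∈ D3 h x (μ x) (x.1, 0), g * z = z * g := by
  have t := tri F hx
  have hzV := zc_tn_le h F hx zv hf
  have h0 := zc_tn_zero h F hx zv hf x.1
  have h1 := zc_tn_mu h F hx zv hf x
  by_cases hE : E M f x = 0
  · exact ⟨1, Or.inl rfl, f, (one_mul f).symm, fun g hg => D3_comm h hg hzV h1.symm (by rw [hE, h0])⟩
  · have hE1 : E M f x = 1 := by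
      have : ∀ y : ZMod 2, y ≠ 0 → y = 1 := by decide
      exact this _ hE
    have hn := pr_mem M x (μ x)
    have hV := mul_mem hn hzV
    have hadd := E_mul M hn hzV
    refine ⟨pr M x (μ x), Or.inr rfl, pr M x (μ x) * f, ?_, fun g hg => D3_comm h hg hV ?_ ?_⟩
    · rw [← mul_assoc, pr_sq h, one_mul]
    · rw [hadd, hadd, E_pr_left M t.pq t.n1, E_pr_right M t.pq t.n1, h1]
    · rw [hadd, hadd, E_pr_left M t.pq t.n1, E_pr_of_ne M t.pq t.n2.symm t.n3.symm, h0, hE1]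
      decide

omit h F hx zv in
theorem tn_p : IsPGroup 2 (tn S M μ x) := S.isPGroup'.to_le inf_le_left

end tn

/-! ### LEMMA J -/

section lemJ

variable [Finite G] {S : Sylow 2 G} {P V : Subgroup G} {M : SymK (S : Subgroup G) P V ⊥ k m} (h : Sit S P V M)
  {μ ν : Equiv.Perm (Pt k m)} (F : Fours M μ ν) {x : Pt k m} (hx : x.2 ≠ 0)
  (zv : zc (o2 P) ≤ V) (syl : ¬ 2 ∣ (tn S M μ x).relIndex (centralizer ({pr M x (μ x)} : Set G)))
include h F hx zv syl

/-- **LEMMA J** (bb #20002, helper666; Lean: helper125) -/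
theorem lemJ {K : Subgroup G} (hT : tn S M μ x ≤ normalizer (K : Set G))
    (hK : ∀ g ∈ K, g ∈ normalizer (L3 M x (μ x) (x.1, 0) : Set G) →
      g ∈ centralizer (L3 M x (μ x) (x.1, 0) : Set G)) :
    ¬ 2 ∣ (tn S M μ x).relIndex (tn S M μ x ⊔ K) := by
  have t := tri F hx
  intro hdvd
  obtain ⟨R, hTR, hRle, hR, hRodd⟩ := HT.exists_syl (S := tn S M μ x) (P := tn S M μ x ⊔ K) tn_p le_sup_left
  have hlt : tn S M μ x < R := by
    refine lt_of_le_of_ne hTR fun e => hRodd ?_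
    rw [← e]; exact hdvd
  obtain ⟨g, hgR, hgN, hgT, hg2⟩ := MinSimple.Choice97.exists_normalizing hR hlt
  obtain ⟨s, hs, b, hb, rfl⟩ := mem_sup_norm hT (hRle hgR)
  -- `b` normalises `T`
  have hbN : b ∈ normalizer (tn S M μ x : Set G) := by
    have h1 := mul_mem (inv_mem (le_normalizer hs)) hgN
    rwa [inv_mul_cancel_left] at h1
  have hbT : b ∉ tn S M μ x := fun e => hgT (mul_mem hs e)
  have hbR : b ∈ R := by
    have h1 := mul_mem (inv_mem (hTR hs)) hgR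
    rwa [inv_mul_cancel_left] at h1
  have hTb : ∀ c ∈ tn S M μ x, b * c * b⁻¹ ∈ tn S M μ x := fun c hc => (mem_normalizer_iff.1 hbN c).1 hc
  have hTb' : ∀ c ∈ tn S M μ x, b⁻¹ * c * b ∈ tn S M μ x := fun c hc => by
    have := (mem_normalizer_iff.1 (inv_mem hbN) c).1 hc
    rwa [inv_inv] at this
  have hKs : ∀ c ∈ tn S M μ x, ∀ y ∈ K, c * y * c⁻¹ ∈ K := fun c hc y hy => (mem_normalizer_iff.1 (hT hc) y).1 hy
  -- `[b, c] ∈ K ∩ T`
  have hcomm : ∀ c ∈ tn S M μ x, c⁻¹ * b * c * b⁻¹ ∈ K ⊓ tn S M μ x := fun c hc => by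
    refine mem_inf.2 ⟨?_, ?_⟩
    · have h1 := hKs c⁻¹ (inv_mem hc) b hb
      rw [inv_inv] at h1
      exact mul_mem h1 (inv_mem hb)
    · have h1 := mul_mem (inv_mem hc) (hTb c hc)
      have e : c⁻¹ * (b * c * b⁻¹) = c⁻¹ * b * c * b⁻¹ := by group
      rwa [e] at h1
  -- the elements of `V` commuting with `K ∩ T`
  have hW : ∀ v ∈ V, (∀ c ∈ K ⊓ tn S M μ x, c * v = v * c) →
      b * v * b⁻¹ ∈ V ∧ ∀ c ∈ K ⊓ tn S M μ x, c * (b * v * b⁻¹) = b * v * b⁻¹ * c := by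
    intro v hv hc
    have hb1 : ∀ c ∈ K ⊓ tn S M μ x, b⁻¹ * c * b ∈ K ⊓ tn S M μ x := fun c hc =>
      mem_inf.2 ⟨mul_mem (mul_mem (inv_mem hb) hc.1) hb, hTb' c hc.2⟩
    have hcom : ∀ c ∈ K ⊓ tn S M μ x, c * (b * v * b⁻¹) = b * v * b⁻¹ * c := by
      intro c hc1
      have h1 := hc _ (hb1 c hc1)
      calc c * (b * v * b⁻¹) = b * (b⁻¹ * c * b * v) * b⁻¹ := by group
        _ = b * (v * (b⁻¹ * c * b)) * b⁻¹ := by rw [h1]
        _ = b * v * b⁻¹ * c := by group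
    refine ⟨mem_V_of h F hx zv ?_ ?_, hcom⟩
    · have hvv := h.Vsq hv
      calc b * v * b⁻¹ * (b * v * b⁻¹) = b * (v * v) * b⁻¹ := by group
        _ = 1 := by rw [hvv]; group
    · intro y hy
      have hyT := Q_le_tn h F hx hy
      have hyv : y * v = v * y := by
        have h1 : y ∈ centralizer (V : Set G) := by
          have := h.Q_eq ▸ hy
          exact this.2
        exact (mem_centralizer_iff.1 h1 v hv).symm
      have h1 : b⁻¹ * (y⁻¹ * b * y * b⁻¹) * b ∈ K ⊓ tn S M μ x := hb1 _ (hcomm y hyT)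
      have h2 := hc _ h1
      have e1 : b⁻¹ * y * b = y * (b⁻¹ * (y⁻¹ * b * y * b⁻¹) * b)⁻¹ := by group
      have h3 : (b⁻¹ * (y⁻¹ * b * y * b⁻¹) * b)⁻¹ * v = v * (b⁻¹ * (y⁻¹ * b * y * b⁻¹) * b)⁻¹ :=
        ((show Commute _ v from h2).inv_left).eq
      have h4 : b⁻¹ * y * b * v = v * (b⁻¹ * y * b) := by
        rw [e1, mul_assoc, h3, ← mul_assoc, hyv, mul_assoc]
      calc y * (b * v * b⁻¹) = b * (b⁻¹ * y * b * v) * b⁻¹ := by group
        _ = b * (v * (b⁻¹ * y * b)) * b⁻¹ := by rw [h4]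
        _ = b * v * b⁻¹ * y := by group
  -- the points of the line
  have hT1 : ∀ v ∈ L3 M x (μ x) (x.1, 0), ∀ c ∈ K ⊓ tn S M μ x, c * v = v * c := fun v hv c hc =>
    (mem_centralizer_iff.1 (hK c hc.1 (tn_norm h F hx hc.2)) v hv).symm
  have hAl : pr M x (μ x) ∈ L3 M x (μ x) (x.1, 0) := ⟨pr_mem M _ _, fun s h1 h2 _ => E_pr_of_ne M t.pq h1 h2⟩
  have hBl : pr M x (x.1, 0) ∈ L3 M x (μ x) (x.1, 0) := ⟨pr_mem M _ _, fun s h1 _ h3 => E_pr_of_ne M t.pr h1 h3⟩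
  obtain ⟨hA', -⟩ := hW _ (pr_mem M _ _) (hT1 _ hAl)
  obtain ⟨hB', hB''⟩ := hW _ (pr_mem M _ _) (hT1 _ hBl)
  obtain ⟨A, hA⟩ : ∃ A, A = pr M x (μ x) := ⟨_, rfl⟩
  obtain ⟨B, hB⟩ : ∃ B, B = pr M x (x.1, 0) := ⟨_, rfl⟩
  rw [← hA] at hA'
  rw [← hB] at hB' hB''
  -- the transposition
  obtain ⟨τ, hτ, hτp⟩ := exists_swap h F hx (c := x)
  have hτP := h.SP hτ.1
  have hEB : E M B x ≠ E M B (μ x) := by
    rw [hB, E_pr_left M t.pr t.n2, E_pr_of_ne M t.pr t.n1.symm t.n3]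
    exact one_ne_zero
  have hBV : B ∈ V := by rw [hB]; exact pr_mem M _ _
  have k1 : τ * B * τ⁻¹ = B * A := by
    rw [conj_swap h hτP t.pq hτp hBV hEB, hA]
  -- `b τ b⁻¹ = τ c`
  obtain ⟨c, hc⟩ : ∃ c, c = τ⁻¹ * b * τ * b⁻¹ := ⟨_, rfl⟩
  have hcK : c ∈ K ⊓ tn S M μ x := by rw [hc]; exact hcomm τ hτ
  have k2 : τ * (b * B * b⁻¹) * τ⁻¹ = b * B * b⁻¹ * (b * A * b⁻¹) := by
    have k3 := hB'' c hcK
    calc τ * (b * B * b⁻¹) * τ⁻¹ = τ * (b * B * b⁻¹ * c) * c⁻¹ * τ⁻¹ := by group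
      _ = τ * (c * (b * B * b⁻¹)) * c⁻¹ * τ⁻¹ := by rw [k3]
      _ = b * (τ * B * τ⁻¹) * b⁻¹ := by rw [hc]; group
      _ = b * B * b⁻¹ * (b * A * b⁻¹) := by rw [k1]; group
  have hA1 : A ≠ 1 := by rw [hA]; exact pr_ne h t.pq t.n1
  have hbA1 : b * A * b⁻¹ ≠ 1 := fun e => hA1 (conj_eq_one_iff.1 e)
  have k4 : b * A * b⁻¹ = A := by
    by_cases hE : E M (b * B * b⁻¹) x = E M (b * B * b⁻¹) (μ x)
    · exfalso
      have h1 := comm_swap h hτP hτp hB' hE
      rw [h1, mul_inv_cancel_right] at k2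
      exact hbA1 (mul_left_cancel (k2.symm.trans (mul_one _).symm))
    · have h1 := conj_swap h hτP t.pq hτp hB' hE
      rw [h1, ← hA] at k2
      exact (mul_left_cancel k2).symm
  -- `T ⟨b⟩ ≤ C(n)`
  have hbC : b ∈ centralizer ({pr M x (μ x)} : Set G) := by
    rw [← hA, mem_centralizer_singleton_iff]
    exact mul_inv_eq_iff_eq_mul.1 k4
  have hle : tn S M μ x ⊔ zpowers b ≤ centralizer ({pr M x (μ x)} : Set G) :=
    sup_le inf_le_right (by rw [zpowers_le]; exact hbC)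
  have hp : IsPGroup 2 (tn S M μ x ⊔ zpowers b : Subgroup G) :=
    hR.to_le (sup_le hTR (by rw [zpowers_le]; exact hbR))
  have h1 := HT.card_dvd_card (inf_le_right : tn S M μ x ≤ _) syl hp hle
  have h2 : tn S M μ x = tn S M μ x ⊔ zpowers b := eq_of_le_of_card_ge le_sup_left (Nat.le_of_dvd Nat.card_pos h1)
  exact hbT (h2.symm.le (mem_sup_right (mem_zpowers b)))

end lemJ

/-! ### `loc` from LEMMA J -/

section loc

variable [Finite G] {F : Type*} [Field F] {L N : Subgroup G} {M : RMod F L N} {T D : Subgroup G}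

/-- a 2-group normalised by `D` which normalises `L` centralises `L` -/
theorem cent_of_lift (hL2 : IsPGroup 2 L) (hL1 : L ≠ ⊥) (hDN : D ≤ normalizer (L : Set G))
    (lift : ∀ A : Matrix.SpecialLinearGroup (Fin 2) F, ∃ g ∈ D, M.Ind g A) {K : Subgroup G} (hK : IsPGroup 2 K)
    (hD : D ≤ normalizer (K : Set G)) {g : G} (hg : g ∈ K) (hgN : g ∈ normalizer (L : Set G)) :
    g ∈ centralizer (L : Set G) := by
  have hK' : IsPGroup 2 (K ⊓ normalizer (L : Set G) : Subgroup G) := hK.to_le inf_le_left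
  obtain ⟨x, hx, hx1, hfix⟩ := Half.exists_fixed hL2 hL1 hK' inf_le_right
  obtain ⟨u, rfl⟩ := (M.mem_iff x).1 hx
  have hu : u ≠ 0 := fun e => hx1 (by rw [e]; exact M.e_zero)
  rw [mem_centralizer_iff]
  intro y hy
  obtain ⟨w, rfl⟩ := (M.mem_iff y).1 hy
  by_cases hw : w = 0
  · rw [hw, M.e_zero, one_mul, mul_one]
  obtain ⟨A, hA⟩ := NatPair.exists_ap hu hw
  obtain ⟨d, hd, hdA⟩ := lift A
  have h1 : d⁻¹ * g * d ∈ K ⊓ normalizer (L : Set G) := by
    refine mem_inf.2 ⟨?_, mul_mem (mul_mem (inv_mem (hDN hd)) hgN) (hDN hd)⟩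
    have := (mem_normalizer_iff.1 (inv_mem (hD hd)) g).1 hg
    rwa [inv_inv] at this
  have h2 := hfix _ h1
  have h3 : d * M.e u * d⁻¹ = M.e w := by
    have h4 := hdA u
    rw [hA] at h4
    exact h4
  rw [← h3]
  calc d * M.e u * d⁻¹ * g = d * M.e u * (d⁻¹ * g * d) * d⁻¹ := by group
    _ = d * (d⁻¹ * g * d * M.e u * (d⁻¹ * g * d)⁻¹) * (d⁻¹ * g * d) * d⁻¹ := by rw [h2]
    _ = g * (d * M.e u * d⁻¹) := by group

theorem loc_of (hL2 : IsPGroup 2 L) (hL1 : L ≠ ⊥) (hT2 : IsPGroup 2 T) (hTN : T ≤ normalizer (L : Set G))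
    (hDN : D ≤ normalizer (L : Set G))
    (lift : ∀ A : Matrix.SpecialLinearGroup (Fin 2) F, ∃ g ∈ D, M.Ind g A)
    (J : ∀ K : Subgroup G, T ≤ normalizer (K : Set G) → (∀ g ∈ K, g ∈ normalizer (L : Set G) →
      g ∈ centralizer (L : Set G)) → ¬ 2 ∣ T.relIndex (T ⊔ K)) {H : Subgroup G} (hT : T ≤ H) (hD : D ≤ H) :
    BTwo.O2 H ≤ centralizer (L : Set G) := by
  have hO2 : IsPGroup 2 (BTwo.O2 H) := o2_isPGroup H
  have hn : H ≤ normalizer (BTwo.O2 H : Set G) := le_normalizer_o2 H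
  have hc : ∀ g ∈ BTwo.O2 H, g ∈ normalizer (L : Set G) → g ∈ centralizer (L : Set G) := fun g hg hgN =>
    cent_of_lift hL2 hL1 hDN lift hO2 (hD.trans hn) hg hgN
  have h1 := J _ (hT.trans hn) hc
  have h2 : IsPGroup 2 (T ⊔ BTwo.O2 H : Subgroup G) := hT2.to_sup_of_normal_right' hO2 (hT.trans hn)
  have h3 := HT.card_dvd_card (le_sup_left : T ≤ T ⊔ BTwo.O2 H) h1 h2 le_rfl
  have h4 : T = T ⊔ BTwo.O2 H := eq_of_le_of_card_ge le_sup_left (Nat.le_of_dvd Nat.card_pos h3)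
  intro g hg
  exact hc g hg (hTN (h4.symm.le (mem_sup_right hg)))

end loc

/-! ### The side -/

section side

variable [Finite G] {S : Sylow 2 G} {P V : Subgroup G} {M : SymK (S : Subgroup G) P V ⊥ k m} (h : Sit S P V M)
  {μ ν : Equiv.Perm (Pt k m)} (F : Fours M μ ν) {x : Pt k m} (hx : x.2 ≠ 0)
  (zv : zc (o2 P) ≤ V) (syl : ¬ 2 ∣ (tn S M μ x).relIndex (centralizer ({pr M x (μ x)} : Set G)))
include h F hx zv syl

/-- **The side.** -/
theorem side : Side (ml3 h (tri F hx)) (pr M x (μ x)) (tn S M μ x) (D3 h x (μ x) (x.1, 0)) := by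
  have t := tri F hx
  have lift : ∀ A : Matrix.SpecialLinearGroup (Fin 2) (ZMod 2), ∃ g ∈ D3 h x (μ x) (x.1, 0),
      (ml3 h (tri F hx)).Ind g A := fun A => exists_lift3 h (tri F hx) A
  have hAl : pr M x (μ x) ∈ L3 M x (μ x) (x.1, 0) := ⟨pr_mem M _ _, fun s h1 h2 _ => E_pr_of_ne M t.pq h1 h2⟩
  refine ⟨by simp, ⟨![1, 0], ?_, fun g => mem_line3 h _⟩, pr_ne h t.pq t.n1, tn_p, tn_norm h F hx, inf_le_right,
    syl, L3_le.trans (V_le_tn h F hx), D3_norm h, lift, fun f hf => split h F hx zv hf, fun H hT hD => ?_⟩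
  · intro e
    have := congrFun e 0
    exact one_ne_zero this
  · refine loc_of (M := ml3 h (tri F hx)) ?_ ?_ tn_p (tn_norm h F hx) (D3_norm h) lift
      (fun K h1 h2 => lemJ h F hx zv syl h1 h2) hT hD
    · intro v
      exact ⟨1, by
        ext
        show (v : G) ^ 2 ^ 1 = 1
        rw [pow_one, pow_two]
        exact h.Vsq (L3_le v.2)⟩
    · intro e
      rw [e, mem_bot] at hAl
      exact pr_ne h t.pq t.n1 hAl

/-- `|Ω₁Z(T) ∩ C(D3)| ≥ 4` for `k ≥ 2` -/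
theorem exists_pair (hk : 2 ≤ k) : ∃ a d : G,
    (a ∈ zc (tn S M μ x) ∧ ∀ g ∈ D3 h x (μ x) (x.1, 0), g * a = a * g) ∧
    (d ∈ zc (tn S M μ x) ∧ ∀ g ∈ D3 h x (μ x) (x.1, 0), g * d = d * g) ∧ a ≠ 1 ∧ d ≠ 1 ∧ a * d ≠ 1 := by
  classical
  have t := tri F hx
  have zcT : ∀ v ∈ V, (∀ s ∈ tn S M μ x, s * v = v * s) → v ∈ zc (tn S M μ x) := fun v hv hs =>
    mem_zc.2 ⟨V_le_tn h F hx hv, hs, by rw [pow_two]; exact h.Vsq hv⟩
  -- the second element
  obtain ⟨d, hd, hdE⟩ := M.surj (fun i y => if i = x.1 then 0 else if y = 0 then 0 else 1) (by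
    intro i
    by_cases hi : i = x.1
    · simp [hi]
    · have h1 : ∀ y : Fin (2 ^ m + 1), (if i = x.1 then (0 : ZMod 2) else if y = 0 then 0 else 1) =
          1 + (if y = 0 then 1 else 0) := by
        intro y
        rw [if_neg hi]
        by_cases hy : y = 0
        · rw [if_pos hy, if_pos hy]; decide
        · rw [if_neg hy, if_neg hy, add_zero]
      rw [Finset.sum_congr rfl fun y _ => h1 y, Finset.sum_add_distrib, Finset.sum_const, Finset.card_univ,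
        Fintype.card_fin, Finset.sum_ite_eq' Finset.univ (0 : Fin (2 ^ m + 1)), if_pos (Finset.mem_univ _),
        nsmul_eq_mul, mul_one, Nat.cast_add, Nat.cast_one]
      have h6 : ((2 ^ m : ℕ) : ZMod 2) = 0 := by
        rw [ZMod.natCast_eq_zero_iff]
        exact dvd_pow_self 2 (by have := h.hm1; omega)
      rw [h6]
      decide)
  have hE : ∀ s : Pt k m, E M d s = if s.1 = x.1 then 0 else if s.2 = 0 then 0 else 1 := fun s => by
    show M.e d s.1 s.2 = _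
    rw [hdE]
  obtain ⟨j, hj⟩ : ∃ j : Fin k, j ≠ x.1 := by
    have : Nontrivial (Fin k) := Fin.nontrivial_iff_two_le.2 hk
    exact exists_ne _
  obtain ⟨y, hy⟩ : ∃ c : Fin (2 ^ m + 1), c ≠ 0 := by
    obtain ⟨c, hc, -⟩ := Half.SymA.exists_third h.hm1 0 0
    exact ⟨c, hc⟩
  have hEj : E M d (j, y) = 1 := by rw [hE, if_neg hj, if_neg hy]
  -- the first element: the sibling
  have hn : (ν x).2 ≠ 0 := fun e => hx (F.nnz.1 e)
  have e1 : (ν x).1 = (μ (ν x)).1 := (F.mfst _).symm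
  have ea1 : E M (pr M (ν x) (μ (ν x))) x = 0 := by
    refine E_pr_of_ne M e1 (fun e => F.nne x hx e.symm) (fun e => F.nmu x hx ?_)
    have := congrArg μ e
    rw [F.msq] at this
    exact this.symm
  have ea2 : E M (pr M (ν x) (μ (ν x))) (μ x) = 0 :=
    E_pr_of_ne M e1 (fun e => F.nmu x hx e.symm) (fun e => F.nne x hx (μ.injective e).symm)
  have ea3 : E M (pr M (ν x) (μ (ν x))) (x.1, 0) = 0 :=
    E_pr_of_ne M e1 (fun e => hn (by rw [← e])) (fun e => hn (by rw [← F.mnz, ← e]))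
  have ea4 : E M (pr M (ν x) (μ (ν x))) (j, y) = 0 := by
    have h1 : (ν x).1 = x.1 := F.nfst x
    refine E_pr_of_ne M e1 (fun e => hj ?_) (fun e => hj ?_)
    · rw [← h1, ← e]
    · rw [← h1, e1, ← e]
  refine ⟨pr M (ν x) (μ (ν x)), d, ⟨zcT _ (pr_mem M _ _) fun s hs => ?_, fun g hg =>
    D3_comm h hg (pr_mem M _ _) (by rw [ea1, ea2]) (by rw [ea1, ea3])⟩, ⟨zcT d hd fun s hs => ?_, fun g hg =>
    D3_comm h hg hd ?_ ?_⟩, pr_ne h e1 (F.mne _ hn).symm, fun e => ?_, fun e => ?_⟩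
  · -- `C_S(12) ≤ C(34)`
    refine h.comm_pr (h.SP hs.1) e1 ?_
    have h3 := F.meqv s hs.1 (ν x)
    rcases F.neqv s hs.1 x with h2 | h2 <;> rcases tn_pp h F hx hs with ⟨a1, -⟩ | ⟨a1, -⟩ <;> rw [a1] at h2
    · left; rw [h2] at h3; exact ⟨h2, h3⟩
    · right; rw [← F.comm] at h2; rw [h2, F.msq] at h3; exact ⟨h2, h3⟩
    · right; rw [h2, F.msq] at h3; exact ⟨h2, h3⟩
    · left; rw [← F.comm, F.msq] at h2; rw [h2] at h3; exact ⟨h2, h3⟩
  · rw [h.comm_iff (h.SP hs.1) hd]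
    intro c
    have h0 : (pp M s x).1 = x.1 := by
      rcases tn_pp h F hx hs with e | e
      · rw [e.1]
      · rw [e.1, F.mfst]
    have h4 : (pp M s c).1 = x.1 ↔ c.1 = x.1 := by
      rw [← h0]
      rw [pp_fst_iff h.amb h.hm1 (h.SP hs.1)]
      rw [h0]
    have h5 := h.snd (p := c) hs.1
    rw [hE, hE]
    simp only [h4, h5]
  · rw [hE, hE, if_pos rfl, if_pos (F.mfst x)]
  · rw [hE, hE, if_pos rfl, if_pos rfl]
  · rw [e, E_one] at hEj
    exact zero_ne_one hEj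
  · have h1 : E M (pr M (ν x) (μ (ν x)) * d) (j, y) = 1 := by
      rw [E_mul M (pr_mem M _ _) hd, ea4, hEj, zero_add]
    rw [e, E_one] at h1
    exact zero_ne_one h1

end side

end Cfsg.Agent.Omega.IId.SwB.SymS
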